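import Cfsg.Agent.Lib.Spor.SuzR.SevenTop
import Cfsg.Agent.Lib.Fusion.OrderFormula

/-!
Groups of Suzuki sporadic type: the two classes of involutions and the shape of the order formula.
-/

set_option autoImplicit false
set_option maxRecDepth 100000
set_option linter.unusedSectionVars false
set_option linter.style.haveILetI false

namespace Cfsg.Agent.Spor.SuzT.Rad

open Cfsg.Agent.Solv.CITGroups (orderOf_two_iff)

universe u

variable {G : Type u} [Group G] [Finite G] {z : G} {Q : Subgroup G} {C : Ctx z Q} (L : Cfg C)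

theorem Cfg.invol_class' {w : G} (hw : w * w = 1) (h1 : w ≠ 1) : IsConj z w ∨ IsConj L.t w := by
  obtain ⟨g, hg⟩ := into_C C.F C.hy (orderOf_two_iff.2 ⟨hw, h1⟩)
  have hww : g * w * g⁻¹ * (g * w * g⁻¹) = 1 := by rw [conj_mul, hw]; group
  have hne : g * w * g⁻¹ ≠ 1 := fun e => h1 (conj_eq_one_iff.1 e)
  have hto : IsConj (g * w * g⁻¹) w := isConj_iff.2 ⟨g⁻¹, by group⟩
  by_cases hD : IsConj z (g * w * g⁻¹)
  · exact Or.inl (hD.trans hto)
  · obtain ⟨c, -, hc⟩ := C.conj_classC L.tz L.sq (C.pi_four L.mem L.four) hg hww (C.classC_of_not hg hww hne hD)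
    exact Or.inr ((isConj_iff.2 ⟨c, hc⟩ : IsConj L.t _).trans hto)

theorem Cfg.T_iff {w : G} (hw : w * w = 1) (h1 : w ≠ 1) : IsConj L.t w ↔ ¬ IsConj z w :=
  ⟨fun h hz => L.not_D (hz.trans h.symm), fun h => (L.invol_class' hw h1).resolve_left h⟩

theorem Cfg.T_sq {w : G} (h : IsConj L.t w) : w * w = 1 ∧ w ≠ 1 := by
  obtain ⟨c, rfl⟩ := isConj_iff.1 h
  exact ⟨by rw [conj_mul, L.sq]; group, fun e => L.ne_one (conj_eq_one_iff.1 e)⟩

theorem Cfg.T_trans_C {y : G} (hy : Commute y z) (hT : IsConj L.t y) : ∃ c, Commute c z ∧ c * L.t * c⁻¹ = y :=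
  C.conj_classC L.tz L.sq (C.pi_four L.mem L.four) hy (L.T_sq hT).1
    (C.classC_of_not hy (L.T_sq hT).1 (L.T_sq hT).2 ((L.T_iff (L.T_sq hT).1 (L.T_sq hT).2).1 hT))

theorem card_Cz (h : Hyp z Q) : Nat.card (Subgroup.centralizer ({z} : Set G)) = 3317760 := by rw [h.cardC]

theorem Cfg.card_Hv : Nat.card L.Hv = 80640 := by
  have h := Subgroup.card_eq_card_quotient_mul_card_subgroup L.VH
  rw [show L.VH = L.V.subgroupOf L.Hv from rfl,
    Nat.card_congr (Subgroup.subgroupOfEquivOfLe (L.V_le.trans L.S₀_le_Hv)).toEquiv, L.card_V] at h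
  rw [h, show Nat.card (L.Hv ⧸ L.V.subgroupOf L.Hv) = Nat.card L.MQ from rfl, L.MQ_facts.1]

theorem Cfg.card_Ct : Nat.card (Subgroup.centralizer ({L.t} : Set G)) = 161280 := by
  rw [show Subgroup.centralizer ({L.t} : Set G) = L.H from rfl, L.card_H, L.card_Hv]

/-- counting pairs over a transitive set -/
theorem card_orbit_fiber {K : Subgroup G} {y₀ : G} {X : G → Prop}
    (hX : ∀ y, X y ↔ ∃ c ∈ K, c * y₀ * c⁻¹ = y) (P : G → G → Prop)
    (hP : ∀ c ∈ K, ∀ u y, P u y ↔ P (c * u * c⁻¹) (c * y * c⁻¹)) :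
    Nat.card {q : G × G // X q.2 ∧ P q.1 q.2} = Nat.card {y // X y} * Nat.card {u // P u y₀} := by
  classical
  haveI : Fintype {y // X y} := Fintype.ofFinite _
  have e : {q : G × G // X q.2 ∧ P q.1 q.2} ≃ Σ y : {y // X y}, {u // P u y.1} :=
    { toFun := fun q => ⟨⟨q.1.2, q.2.1⟩, ⟨q.1.1, q.2.2⟩⟩
      invFun := fun s => ⟨(s.2.1, s.1.1), s.1.2, s.2.2⟩
      left_inv := fun _ => rfl
      right_inv := fun _ => rfl }
  have hc : ∀ y : {y // X y}, Nat.card {u // P u y.1} = Nat.card {u // P u y₀} := fun y => by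
    obtain ⟨c, hc, hcy⟩ := (hX _).1 y.2
    refine (Nat.card_congr ((MulAut.conj c).toEquiv.subtypeEquiv fun u => ?_)).symm
    have h := hP c hc u y₀
    rw [hcy] at h
    exact h
  rw [Nat.card_congr e, Nat.card_sigma, Finset.sum_congr rfl fun y _ => hc y, Finset.sum_const, smul_eq_mul,
    Finset.card_univ, ← Nat.card_eq_fintype_card]

/-- orbit and stabiliser inside a subgroup -/
theorem card_orbit_mul {K : Subgroup G} {y₀ : G} {X : G → Prop}
    (hX : ∀ y, X y ↔ ∃ c ∈ K, c * y₀ * c⁻¹ = y) :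
    Nat.card {y // X y} * Nat.card ↥(K ⊓ Subgroup.centralizer ({y₀} : Set G)) = Nat.card K := by
  classical
  haveI : Fintype {y // X y} := Fintype.ofFinite _
  let f : K → {y // X y} := fun c => ⟨(c : G) * y₀ * (c : G)⁻¹, (hX _).2 ⟨(c : G), c.2, rfl⟩⟩
  have hfib : ∀ y : {y // X y},
      Nat.card {c : K // f c = y} = Nat.card ↥(K ⊓ Subgroup.centralizer ({y₀} : Set G)) := fun y => by
    obtain ⟨c₀, hc₀, hcy⟩ := (hX _).1 y.2
    refine Nat.card_congr
      { toFun := fun c => ⟨c₀⁻¹ * (c.1 : G), Subgroup.mem_inf.2 ⟨K.mul_mem (K.inv_mem hc₀) c.1.2,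
          Subgroup.mem_centralizer_singleton_iff.2 ?_⟩⟩
        invFun := fun d => ⟨⟨c₀ * (d : G), mul_mem hc₀ (Subgroup.mem_inf.1 d.2).1⟩, Subtype.ext ?_⟩
        left_inv := fun c => Subtype.ext (Subtype.ext (mul_inv_cancel_left c₀ (c.1 : G)))
        right_inv := fun d => Subtype.ext (inv_mul_cancel_left c₀ (d : G)) }
    · have h : (c.1 : G) * y₀ * (c.1 : G)⁻¹ = c₀ * y₀ * c₀⁻¹ := (congrArg Subtype.val c.2).trans hcy.symm
      calc c₀⁻¹ * (c.1 : G) * y₀ = c₀⁻¹ * ((c.1 : G) * y₀ * (c.1 : G)⁻¹) * c.1 := by group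
        _ = y₀ * (c₀⁻¹ * (c.1 : G)) := by rw [h]; group
    · have hd : Commute (d : G) y₀ := Subgroup.mem_centralizer_singleton_iff.1 (Subgroup.mem_inf.1 d.2).2
      show c₀ * (d : G) * y₀ * (c₀ * (d : G))⁻¹ = y.1
      rw [show c₀ * (d : G) * y₀ * (c₀ * (d : G))⁻¹ = c₀ * ((d : G) * y₀ * (d : G)⁻¹) * c₀⁻¹ by group, hd.eq,
        mul_inv_cancel_right, hcy]
  rw [← Nat.card_congr (Equiv.sigmaFiberEquiv f), Nat.card_sigma, Finset.sum_congr rfl fun y _ => hfib y,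
    Finset.sum_const, smul_eq_mul, Finset.card_univ, ← Nat.card_eq_fintype_card]

theorem Cfg.card_T_Cz : Nat.card {y // IsConj L.t y ∧ Commute y z} = 6480 := by
  have h := card_orbit_mul (K := Subgroup.centralizer ({z} : Set G)) (y₀ := L.t)
    (X := fun y => IsConj L.t y ∧ Commute y z) fun y => ⟨fun ⟨h1, h2⟩ => by
      obtain ⟨c, hc, hcy⟩ := L.T_trans_C h2 h1
      exact ⟨c, Subgroup.mem_centralizer_singleton_iff.2 hc, hcy⟩, fun ⟨c, hc, hcy⟩ => by
      refine ⟨isConj_iff.2 ⟨c, hcy⟩, ?_⟩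
      have hcz : Commute c z := Subgroup.mem_centralizer_singleton_iff.1 hc
      rw [← hcy]
      exact (hcz.mul_left L.tz).mul_left hcz.inv_left⟩
  rw [inf_comm, show Subgroup.centralizer ({L.t} : Set G) ⊓ Subgroup.centralizer ({z} : Set G) = L.S from rfl,
    L.toLoc.card_S, card_Cz C.hy] at h
  omega

theorem Cfg.card_D_Ct : Nat.card {u // IsConj z u ∧ Commute u L.t} = 315 := by
  have h := card_orbit_mul (K := L.H) (y₀ := z)
    (X := fun u => IsConj z u ∧ Commute u L.t) fun u => ⟨fun ⟨h1, h2⟩ => L.D_trans h2 h1, fun ⟨c, hc, hcy⟩ => by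
      refine ⟨isConj_iff.2 ⟨c, hcy⟩, ?_⟩
      rw [← hcy]
      exact ((L.mem_H.1 hc).mul_left L.tz.symm).mul_left (L.mem_H.1 hc).inv_left⟩
  rw [show L.H ⊓ Subgroup.centralizer ({z} : Set G) = L.S from rfl, L.toLoc.card_S,
    show L.H = Subgroup.centralizer ({L.t} : Set G) from rfl, L.card_Ct] at h
  omega

theorem commute_central {u y w : G} (hu : u * u = 1) (hy : y * y = 1) (hw : w * w = 1)
    (h : w ∈ Subgroup.zpowers (u * y)) : Commute u w ∧ Commute y w := by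
  have hcomm : Commute (u * y) w := by
    obtain ⟨n, rfl⟩ := h
    exact (Commute.refl (u * y)).zpow_right n
  obtain ⟨n, hn⟩ := h
  simp only at hn
  have hinv : u * (u * y) * u⁻¹ = (u * y)⁻¹ := by
    rw [mul_inv_rev, inv_eq_of_mul_eq_one_right hu, inv_eq_of_mul_eq_one_right hy, ← mul_assoc, hu, one_mul]
  have hu' : Commute u w := by
    refine mul_inv_eq_iff_eq_mul.1 ?_
    conv_lhs => rw [← hn]
    rw [← conj_zpow, hinv, inv_zpow, hn, inv_eq_of_mul_eq_one_right hw]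
  refine ⟨hu', ?_⟩
  have h2 := hu'.inv_left.mul_left hcomm
  rwa [inv_mul_cancel_left] at h2

/-- the number of conjugates of the first involution completing the second one to a pair around the first -/
noncomputable def Cfg.numN : ℕ :=
  Nat.card {u : G // IsConj z u ∧ z ∈ Subgroup.zpowers (u * L.t)}

/-- the number of conjugates of the second involution completing the first one to a pair around the second -/
noncomputable def Cfg.numM : ℕ :=
  Nat.card {y : G // IsConj L.t y ∧ L.t ∈ Subgroup.zpowers (z * y)}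

theorem Cfg.rz : Fusion.rCount z L.t z = 6480 * L.numN := by
  have hiff : ∀ q : G × G, (IsConj z q.1 ∧ IsConj L.t q.2 ∧ z ∈ Subgroup.zpowers (q.1 * q.2)) ↔
      ((IsConj L.t q.2 ∧ Commute q.2 z) ∧ (IsConj z q.1 ∧ z ∈ Subgroup.zpowers (q.1 * q.2))) := fun q =>
    ⟨fun ⟨a, b, c⟩ => ⟨⟨b, (commute_central (D_sq C.hy a).1 (L.T_sq b).1 (zz C.hy) c).2⟩, a, c⟩,
      fun ⟨⟨b, _⟩, a, c⟩ => ⟨a, b, c⟩⟩
  rw [Fusion.rCount, Nat.card_congr (Equiv.subtypeEquivRight hiff), ← L.card_T_Cz]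
  refine card_orbit_fiber (K := Subgroup.centralizer ({z} : Set G)) (y₀ := L.t)
    (X := fun y => IsConj L.t y ∧ Commute y z) (fun y => ⟨fun ⟨h1, h2⟩ => by
      obtain ⟨c, hc, hcy⟩ := L.T_trans_C h2 h1
      exact ⟨c, Subgroup.mem_centralizer_singleton_iff.2 hc, hcy⟩, fun ⟨c, hc, hcy⟩ => by
      refine ⟨isConj_iff.2 ⟨c, hcy⟩, ?_⟩
      have hcz : Commute c z := Subgroup.mem_centralizer_singleton_iff.1 hc
      rw [← hcy]
      exact (hcz.mul_left L.tz).mul_left hcz.inv_left⟩)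
    (fun u y => IsConj z u ∧ z ∈ Subgroup.zpowers (u * y)) fun c hc u y => ?_
  have hcz : Commute c z := Subgroup.mem_centralizer_singleton_iff.1 hc
  refine and_congr ⟨fun h => h.trans (isConj_iff.2 ⟨c, rfl⟩), fun h => h.trans (isConj_iff.2 ⟨c⁻¹, by group⟩)⟩ ?_
  rw [show c * u * c⁻¹ * (c * y * c⁻¹) = MulAut.conj c (u * y) by simp [mul_assoc]]
  conv_rhs => rw [show z = MulAut.conj c z by rw [MulAut.conj_apply, hcz.eq, mul_inv_cancel_right]]
  simp only [Subgroup.mem_zpowers_iff, ← map_zpow, EmbeddingLike.apply_eq_iff_eq]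

theorem Cfg.rt : Fusion.rCount z L.t L.t = 315 * L.numM := by
  have hiff : ∀ q : G × G, (IsConj z q.1 ∧ IsConj L.t q.2 ∧ L.t ∈ Subgroup.zpowers (q.1 * q.2)) ↔
      ((IsConj z q.1 ∧ Commute q.1 L.t) ∧ (IsConj L.t q.2 ∧ L.t ∈ Subgroup.zpowers (q.1 * q.2))) := fun q =>
    ⟨fun ⟨a, b, c⟩ => ⟨⟨a, (commute_central (D_sq C.hy a).1 (L.T_sq b).1 L.sq c).1⟩, b, c⟩,
      fun ⟨⟨a, _⟩, b, c⟩ => ⟨a, b, c⟩⟩
  rw [Fusion.rCount, Nat.card_congr (Equiv.subtypeEquivRight hiff), ← L.card_D_Ct]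
  have hsw : Nat.card {q : G × G // (IsConj z q.1 ∧ Commute q.1 L.t) ∧
      IsConj L.t q.2 ∧ L.t ∈ Subgroup.zpowers (q.1 * q.2)} = Nat.card {q : G × G // (IsConj z q.2 ∧ Commute q.2 L.t) ∧
      IsConj L.t q.1 ∧ L.t ∈ Subgroup.zpowers (q.2 * q.1)} :=
    Nat.card_congr ((Equiv.prodComm G G).subtypeEquiv fun q => Iff.rfl)
  rw [hsw]
  refine card_orbit_fiber (K := L.H) (y₀ := z) (X := fun u => IsConj z u ∧ Commute u L.t)
    (fun u => ⟨fun ⟨h1, h2⟩ => L.D_trans h2 h1, fun ⟨c, hc, hcy⟩ => by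
      refine ⟨isConj_iff.2 ⟨c, hcy⟩, ?_⟩
      rw [← hcy]
      exact ((L.mem_H.1 hc).mul_left L.tz.symm).mul_left (L.mem_H.1 hc).inv_left⟩)
    (fun y u => IsConj L.t y ∧ L.t ∈ Subgroup.zpowers (u * y)) fun c hc y u => ?_
  have hct : Commute c L.t := L.mem_H.1 hc
  refine and_congr ⟨fun h => h.trans (isConj_iff.2 ⟨c, rfl⟩), fun h => h.trans (isConj_iff.2 ⟨c⁻¹, by group⟩)⟩ ?_
  rw [show c * u * c⁻¹ * (c * y * c⁻¹) = MulAut.conj c (u * y) by simp [mul_assoc]]
  conv_rhs => rw [show L.t = MulAut.conj c L.t by rw [MulAut.conj_apply, hct.eq, mul_inv_cancel_right]]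
  simp only [Subgroup.mem_zpowers_iff, ← map_zpow, EmbeddingLike.apply_eq_iff_eq]

/-- the order formula -/
theorem Cfg.order_eq : Nat.card G = 161280 * (6480 * L.numN) + 3317760 * (315 * L.numM) := by
  classical
  have hzo : orderOf z = 2 := C.hy.ord
  have hto : orderOf L.t = 2 := orderOf_two_iff.2 ⟨L.sq, L.ne_one⟩
  have hne : z ≠ L.t := fun e => L.not_D (e ▸ IsConj.refl z)
  have h := Fusion.thompson_order_formula z L.t hzo hto L.not_D {z, L.t}
    (fun w hw => by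
      rcases Finset.mem_insert.1 hw with e | e
      · rw [e, hzo]
      · rw [Finset.mem_singleton.1 e, hto])
    fun w hw => by
      obtain ⟨hw2, hw1⟩ := orderOf_two_iff.1 hw
      rcases L.invol_class' hw2 hw1 with h | h
      · refine ⟨z, by simp, h.symm, fun w' hw' hc => ?_⟩
        rcases Finset.mem_insert.1 hw' with e | e
        · exact e
        · exact absurd (h.trans (Finset.mem_singleton.1 e ▸ hc)) L.not_D
      · refine ⟨L.t, by simp, h.symm, fun w' hw' hc => ?_⟩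
        rcases Finset.mem_insert.1 hw' with e | e
        · exact absurd ((e ▸ hc : IsConj w z).symm.trans h.symm) L.not_D
        · exact Finset.mem_singleton.1 e
  rw [Finset.sum_pair hne, L.rz, L.rt, card_Cz C.hy, L.card_Ct] at h
  push_cast at h
  have h' : (Nat.card G : ℚ) = ((161280 * (6480 * L.numN) + 3317760 * (315 * L.numM) : ℕ) : ℚ) := by
    rw [h]; push_cast; ring
  exact_mod_cast h'

end Cfsg.Agent.Spor.SuzT.Rad
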