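import Cfsg.Agent.Lib.Spor.SuzR.Ord.MPart

/-!
Groups of Suzuki sporadic type: involutions and their products in a Sylow subgroup of the quotient.
-/

set_option autoImplicit false
set_option maxRecDepth 100000
set_option linter.unusedSectionVars false
set_option linter.style.haveILetI false

namespace Cfsg.Agent.Spor.SuzT.Rad

open Chk Dat Cfsg.Agent.Spor.SuzT.Five
open Cfsg.Agent.Solv.CITGroups (orderOf_two_iff)

/-- codes of involutions centralising the second involution -/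
def codeI (u a b : ℕ) : Bool := cmB u 4 a b && sqB a b

/-- codes completing one to a square equal to the first involution -/
def partner (u a b s t : ℕ) : Bool :=
  codeI u s t && Nat.beq (sz (Nat.xor a s) (Nat.xor b t)) 1 && Nat.beq (sx (Nat.xor a s) (Nat.xor b t)) 0

/-- the number of partners -/
def partnerNum (u a b : ℕ) : ℕ := ((List.range 256).filter fun n => partner u a b (n / 16) (n % 16)).length

/-- finite counts in the radical subgroup -/
def uCountOK : Bool :=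
  (List.range 16).all fun u => !(sixB u) ||
    (Nat.beq ((List.range 256).filter fun n => codeI u (n / 16) (n % 16)).length 28 &&
      Nat.beq ((List.range 256).filter fun n => codeI u (n / 16) (n % 16) &&
        Nat.beq (partnerNum u (n / 16) (n % 16)) 4).length 24 &&
      (List.range 256).all fun n => !(codeI u (n / 16) (n % 16)) ||
        Nat.beq (partnerNum u (n / 16) (n % 16)) 4 || Nat.beq (partnerNum u (n / 16) (n % 16)) 0)

theorem u_count_ok : uCountOK = true := by decide +kernel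

theorem card_fibres {α β : Type*} [Finite α] [Finite β] (f : α → β) (n : ℕ)
    (h : ∀ b, Nat.card {a // f a = b} = n) : Nat.card α = n * Nat.card β := by
  haveI : Fintype β := Fintype.ofFinite β
  rw [← Nat.card_congr (Equiv.sigmaFiberEquiv f), Nat.card_sigma, Finset.sum_congr rfl fun b _ => h b,
    Finset.sum_const, smul_eq_mul, Finset.card_univ, ← Nat.card_eq_fintype_card, mul_comm]

universe u

variable {G : Type u} [Group G] [Finite G] {z : G} {Q : Subgroup G} {C : Ctx z Q} (L : Cfg C)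

/-- involutions of the Sylow subgroup above the quotient, with the identity -/
def Cfg.SI (a : G) : Prop := a ∈ L.S₀ ∧ a * a = 1

theorem Cfg.SI_iff (a : G) : L.SI a ↔ a ∈ C.R ∧ codeI L.u (C.fst a) (C.th a) = true := by
  constructor
  · rintro ⟨ha, haa⟩
    obtain ⟨hR, ht⟩ := L.mem_S₀.1 ha
    refine ⟨hR, ?_⟩
    have h := C.sq_law hR
    rw [haa, ← C.zel_zero] at h
    obtain ⟨h1, h2⟩ := C.zel_inj (by norm_num) (by norm_num) (Nat.mod_lt _ (by norm_num)) (Nat.mod_lt _ (by norm_num)) h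
    have h1' : sz (C.fst a) (C.th a) = 0 := h1.symm
    have h2' : sx (C.fst a) (C.th a) = 0 := h2.symm
    simp only [codeI, sqB, (L.comm_t hR).1 ht, h1', h2', Nat.beq_refl, Bool.and_self]
  · rintro ⟨hR, h⟩
    simp only [codeI, sqB, Bool.and_eq_true] at h
    refine ⟨L.mem_S₀.2 ⟨hR, (L.comm_t hR).2 h.1⟩, ?_⟩
    rw [C.sq_law hR, Nat.eq_of_beq_eq_true h.2.1, Nat.eq_of_beq_eq_true h.2.2, C.zel_zero]

theorem Cfg.SI_sq_z {a b : G} (ha : L.SI a) (hb : L.SI b) :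
    a * b * (a * b) = z ↔ partner L.u (C.fst a) (C.th a) (C.fst b) (C.th b) = true := by
  obtain ⟨hR, -⟩ := (L.SI_iff a).1 ha
  obtain ⟨hR', hc⟩ := (L.SI_iff b).1 hb
  rw [C.sq_law (mul_mem hR hR'), C.fst_hom hR hR', C.th_mul hR hR']
  simp only [partner, hc, Bool.true_and, Bool.and_eq_true]
  constructor
  · intro h
    have hz : z = C.zel 1 0 := by simp [Ctx.zel]
    obtain ⟨h1, h2⟩ := C.zel_inj (Nat.mod_lt _ (by norm_num)) (Nat.mod_lt _ (by norm_num)) (by norm_num) (by norm_num)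
      (h.trans hz)
    refine ⟨?_, ?_⟩
    · rw [show sz _ _ = 1 from h1]; rfl
    · rw [show sx _ _ = 0 from h2]; rfl
  · rintro ⟨h1, h2⟩
    rw [Nat.eq_of_beq_eq_true h1, Nat.eq_of_beq_eq_true h2]
    simp [Ctx.zel]

theorem Cfg.S0_sq_zel {a : G} (ha : a ∈ L.S₀) : ∃ i j, i < 2 ∧ j < 2 ∧ a * a = C.zel i j :=
  ⟨_, _, Nat.mod_lt _ (by norm_num), Nat.mod_lt _ (by norm_num), C.sq_law (L.mem_S₀.1 ha).1⟩

theorem Cfg.SI_mul_V {a w : G} (ha : L.SI a) (hw : w ∈ L.V) : L.SI (a * w) := by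
  refine ⟨mul_mem ha.1 (L.V_le hw), ?_⟩
  have hc : Commute a w := L.Hv_V (L.S₀_le_Hv ha.1) hw
  rw [show a * w * (a * w) = a * (w * a) * w by group, ← hc.eq, ← mul_assoc, ha.2, one_mul, L.V_sq hw]

theorem Cfg.bar_fibre (m : L.MQ) (hm : m ∈ L.U) (hmm : m * m = 1) :
    Nat.card {a : {a : G // L.SI a} // L.bar (L.S₀_le_Hv a.2.1) = m} = 4 := by
  obtain ⟨g, hg, rfl⟩ := L.mem_U.1 hm
  have hgg : L.SI g := ⟨hg, L.invol_bar hg (by rwa [← L.bar_mul, L.bar_one_iff] at hmm)⟩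
  rw [← L.card_V]
  refine Nat.card_congr
    { toFun := fun a => ⟨g⁻¹ * a.1.1, (L.bar_eq (L.S₀_le_Hv hg) (L.S₀_le_Hv a.1.2.1)).1 a.2.symm⟩
      invFun := fun w => ⟨⟨g * w, L.SI_mul_V hgg w.2⟩,
        ((L.bar_eq (L.S₀_le_Hv hg) (L.S₀_le_Hv (L.SI_mul_V hgg w.2).1)).2 (by rw [inv_mul_cancel_left]; exact w.2)).symm⟩
      left_inv := fun a => Subtype.ext (Subtype.ext (mul_inv_cancel_left g a.1.1))
      right_inv := fun w => Subtype.ext (inv_mul_cancel_left g (w : G)) }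

theorem Cfg.card_U_invol : Nat.card {m : L.MQ // m ∈ L.U ∧ m * m = 1} = 28 := by
  have h1 : Nat.card {a : G // L.SI a} = 112 := by
    rw [Nat.card_congr (Equiv.subtypeEquivRight L.SI_iff), C.card_codes fun a b => codeI L.u a b]
    have h := List.all_eq_true.mp u_count_ok L.u (List.mem_range.mpr L.u_lt)
    rw [L.six, Bool.not_true, Bool.false_or] at h
    simp only [Bool.and_eq_true] at h
    rw [Nat.eq_of_beq_eq_true h.1.1]
  let f : {a : G // L.SI a} → {m : L.MQ // m ∈ L.U ∧ m * m = 1} := fun a =>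
    ⟨L.bar (L.S₀_le_Hv a.2.1), L.mem_U.2 ⟨a.1, a.2.1, rfl⟩, by
      rw [← L.bar_mul, L.bar_one_iff, a.2.2]; exact one_mem _⟩
  have h2 := card_fibres f 4 fun m => by
    rw [← L.bar_fibre m.1 m.2.1 m.2.2]
    exact Nat.card_congr (Equiv.subtypeEquivRight fun a => Subtype.ext_iff)
  omega

theorem Cfg.U_comm_z {m : L.MQ} (hm : m ∈ L.U) : Commute (L.bar L.z_Hv) m := by
  obtain ⟨g, hg, rfl⟩ := L.mem_U.1 hm
  show _ = _
  rw [← L.bar_mul, ← L.bar_mul]
  exact L.bar_congr _ _ (L.mem_S₀.1 hg).1.1.symm.eq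

theorem Cfg.card_comm_z :
    Nat.card {m : L.MQ // Inv2 m ∧ m ≠ L.bar L.z_Hv ∧ Commute (L.bar L.z_Hv) m} = 26 := by
  classical
  haveI : Fintype L.MQ := Fintype.ofFinite _
  obtain ⟨hz2, hz1⟩ := L.z_bar_sq
  have h := L.card_U_invol
  rw [Nat.card_eq_fintype_card, Fintype.card_subtype] at h ⊢
  have e : (Finset.univ.filter fun m : L.MQ => m ∈ L.U ∧ m * m = 1) =
      insert 1 (insert (L.bar L.z_Hv)
        (Finset.univ.filter fun m => Inv2 m ∧ m ≠ L.bar L.z_Hv ∧ Commute (L.bar L.z_Hv) m)) := by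
    ext m
    simp only [Finset.mem_filter, Finset.mem_univ, true_and, Finset.mem_insert]
    constructor
    · rintro ⟨hm, hmm⟩
      by_cases h1 : m = 1
      · exact Or.inl h1
      by_cases h2 : m = L.bar L.z_Hv
      · exact Or.inr (Or.inl h2)
      exact Or.inr (Or.inr ⟨⟨hmm, h1⟩, h2, L.U_comm_z hm⟩)
    · rintro (rfl | rfl | ⟨hm, -, hc⟩)
      · exact ⟨one_mem _, mul_one 1⟩
      · exact ⟨L.z_U, hz2⟩
      · exact ⟨L.cent_z hc.symm, hm.1⟩
  rw [e, Finset.card_insert_of_notMem (by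
    simp only [Finset.mem_insert, Finset.mem_filter, Finset.mem_univ, true_and, not_or]
    exact ⟨Ne.symm hz1, fun h => h.1.2 rfl⟩), Finset.card_insert_of_notMem (by simp)] at h
  omega

theorem Cfg.pair_z_iff {m n : L.MQ} :
    (Inv2 m ∧ Inv2 n ∧ ¬ Commute m n ∧ L.bar L.z_Hv ∈ Subgroup.zpowers (m * n)) ↔
      (m ∈ L.U ∧ m * m = 1) ∧ (n ∈ L.U ∧ n * n = 1) ∧ m * n * (m * n) = L.bar L.z_Hv := by
  obtain ⟨hz2, hz1⟩ := L.z_bar_sq
  constructor
  · rintro ⟨hm, hn, hnc, hmem⟩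
    obtain ⟨hmz, hnz⟩ := commute_central hm.1 hn.1 hz2 hmem
    have hmU := L.cent_z hmz
    have hnU := L.cent_z hnz
    refine ⟨⟨hmU, hm.1⟩, ⟨hnU, hn.1⟩, ?_⟩
    have hzo : orderOf (L.bar L.z_Hv) = 2 := orderOf_two_iff.2 L.z_bar_sq
    have hne : m * n * (m * n) ≠ 1 := fun e => hnc (by
      show m * n = n * m
      rw [← inv_eq_of_mul_eq_one_right e, mul_inv_rev, inv_eq_of_mul_eq_one_right hm.1,
        inv_eq_of_mul_eq_one_right hn.1])
    obtain ⟨g, hg, hgb⟩ := L.mem_U.1 (mul_mem hmU hnU)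
    have h4 : (m * n) ^ 4 = 1 := by
      obtain ⟨i, j, -, -, hij⟩ := L.S0_sq_zel hg
      have hz4 : g ^ 4 = 1 := by
        rw [show g ^ 4 = g * g * (g * g) by rw [show (4 : ℕ) = 2 * 2 from rfl, pow_mul, pow_two, pow_two], hij,
          C.zel_mul, show (i + i) % 2 = 0 by omega, show (j + j) % 2 = 0 by omega, C.zel_zero]
      rw [← hgb, ← L.bar_pow (L.S₀_le_Hv hg), L.bar_one_iff, hz4]
      exact one_mem _
    have ho : orderOf (m * n) = 2 ^ (1 + 1) := by
      haveI : Fact (Nat.Prime 2) := ⟨Nat.prime_two⟩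
      refine orderOf_eq_prime_pow (fun e => hne ?_) h4
      rwa [pow_one, pow_two] at e
    have h := Fusion.invol_unique_in_zpowers hzo hmem
    rw [ho, show (2 : ℕ) ^ (1 + 1) / 2 = 2 from rfl, pow_two] at h
    exact h.symm
  · rintro ⟨⟨hmU, hm⟩, ⟨hnU, hn⟩, e⟩
    refine ⟨⟨hm, fun e1 => hz1 ?_⟩, ⟨hn, fun e1 => hz1 ?_⟩, fun hc => hz1 ?_, ?_⟩
    · rw [← e, e1, one_mul, hn]
    · rw [← e, e1, mul_one, hm]
    · rw [← e, show m * n * (m * n) = m * (n * m) * n by group, ← hc.eq, ← mul_assoc, hm, one_mul, hn]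
    · rw [← e]
      exact mul_mem (Subgroup.mem_zpowers _) (Subgroup.mem_zpowers _)

theorem Cfg.bar_sq_z {a b : G} (ha : L.SI a) (hb : L.SI b) :
    L.bar (L.S₀_le_Hv ha.1) * L.bar (L.S₀_le_Hv hb.1) * (L.bar (L.S₀_le_Hv ha.1) * L.bar (L.S₀_le_Hv hb.1)) =
      L.bar L.z_Hv ↔ a * b * (a * b) = z := by
  rw [← L.bar_mul, ← L.bar_mul]
  refine ⟨fun h => ?_, fun h => L.bar_congr _ _ h⟩
  have hw := (L.bar_eq _ L.z_Hv).1 h
  obtain ⟨i, j, hi, hj, hij⟩ := L.S0_sq_zel (mul_mem ha.1 hb.1)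
  rw [hij, C.zel_inv i j] at hw
  have hz : C.zel 1 0 = z := by simp [Ctx.zel]
  replace hw : C.zel i j * C.zel 1 0 ∈ L.V := by rw [hz]; exact hw
  rw [C.zel_mul] at hw
  have h1 := L.zel_V (Nat.mod_lt _ (by norm_num)) (Nat.mod_lt _ (by norm_num)) hw
  rw [← C.zel_zero] at h1
  obtain ⟨e1, e2⟩ := C.zel_inj (Nat.mod_lt _ (by norm_num)) (Nat.mod_lt _ (by norm_num)) (by norm_num) (by norm_num) h1
  rw [hij, show i = 1 by omega, show j = 0 by omega]
  simp [Ctx.zel]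

theorem Cfg.card_pairs_z : Nat.card {q : L.MQ × L.MQ //
    Inv2 q.1 ∧ Inv2 q.2 ∧ ¬ Commute q.1 q.2 ∧ L.bar L.z_Hv ∈ Subgroup.zpowers (q.1 * q.2)} = 96 := by
  classical
  have h := List.all_eq_true.mp u_count_ok L.u (List.mem_range.mpr L.u_lt)
  rw [L.six, Bool.not_true, Bool.false_or] at h
  simp only [Bool.and_eq_true, List.all_eq_true, List.mem_range] at h
  obtain ⟨⟨-, hc24⟩, hall⟩ := h
  -- the source
  let X := {q : {a : G // L.SI a} × {a : G // L.SI a} // (q.1 : G) * q.2 * ((q.1 : G) * q.2) = z}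
  let Y := {q : L.MQ × L.MQ //
    Inv2 q.1 ∧ Inv2 q.2 ∧ ¬ Commute q.1 q.2 ∧ L.bar L.z_Hv ∈ Subgroup.zpowers (q.1 * q.2)}
  let f : X → Y := fun q => ⟨(L.bar (L.S₀_le_Hv q.1.1.2.1), L.bar (L.S₀_le_Hv q.1.2.2.1)),
    L.pair_z_iff.2 ⟨⟨L.mem_U.2 ⟨_, q.1.1.2.1, rfl⟩, by rw [← L.bar_mul, L.bar_one_iff, q.1.1.2.2]; exact one_mem _⟩,
      ⟨L.mem_U.2 ⟨_, q.1.2.2.1, rfl⟩, by rw [← L.bar_mul, L.bar_one_iff, q.1.2.2.2]; exact one_mem _⟩,
      (L.bar_sq_z q.1.1.2 q.1.2.2).2 q.2⟩⟩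
  have hX : Nat.card X = 16 * Nat.card Y := card_fibres f 16 fun y => by
    obtain ⟨⟨h1, h1'⟩, ⟨h2, h2'⟩, h3⟩ := L.pair_z_iff.1 y.2
    have e : {q : X // f q = y} ≃ {a : {a : G // L.SI a} // L.bar (L.S₀_le_Hv a.2.1) = y.1.1} ×
        {a : {a : G // L.SI a} // L.bar (L.S₀_le_Hv a.2.1) = y.1.2} :=
      { toFun := fun q => (⟨q.1.1.1, congrArg (fun p : Y => p.1.1) q.2⟩, ⟨q.1.1.2, congrArg (fun p : Y => p.1.2) q.2⟩)
        invFun := fun p => ⟨⟨(p.1.1, p.2.1), (L.bar_sq_z p.1.1.2 p.2.1.2).1 (by rw [p.1.2, p.2.2, h3])⟩,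
          Subtype.ext (Prod.ext p.1.2 p.2.2)⟩
        left_inv := fun _ => rfl
        right_inv := fun _ => rfl }
    rw [Nat.card_congr e, Nat.card_prod, L.bar_fibre _ h1 h1', L.bar_fibre _ h2 h2']
  -- counting the source by codes
  haveI : Fintype {a : G // L.SI a} := Fintype.ofFinite _
  have eX : X ≃ Σ a : {a : G // L.SI a}, {b : {a : G // L.SI a} // (a : G) * b * ((a : G) * b) = z} :=
    { toFun := fun q => ⟨q.1.1, q.1.2, q.2⟩
      invFun := fun s => ⟨(s.1, s.2.1), s.2.2⟩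
      left_inv := fun _ => rfl
      right_inv := fun _ => rfl }
  have hb : ∀ a : {a : G // L.SI a}, Nat.card {b : {a : G // L.SI a} // (a : G) * b * ((a : G) * b) = z} =
      4 * partnerNum L.u (C.fst a.1) (C.th a.1) := fun a => by
    rw [partnerNum, ← C.card_codes fun s t => partner L.u (C.fst a.1) (C.th a.1) s t]
    refine Nat.card_congr
      { toFun := fun b => ⟨b.1.1, ((L.SI_iff _).1 b.1.2).1, (L.SI_sq_z a.2 b.1.2).1 b.2⟩
        invFun := fun b => ⟨⟨b.1, (L.SI_iff _).2 ⟨b.2.1, ?_⟩⟩, (L.SI_sq_z a.2 ((L.SI_iff _).2 ⟨b.2.1, ?_⟩)).2 b.2.2⟩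
        left_inv := fun _ => rfl
        right_inv := fun _ => rfl }
    all_goals
      have hb2 := b.2.2
      simp only [partner, Bool.and_eq_true] at hb2
      exact hb2.1.1
  have hval : ∀ a : {a : G // L.SI a}, 4 * partnerNum L.u (C.fst a.1) (C.th a.1) =
      if partnerNum L.u (C.fst a.1) (C.th a.1) = 4 then 16 else 0 := fun a => by
    have hu := C.fst_lt a.1
    have hv := C.th_lt' a.1
    have h' := hall (16 * C.fst a.1 + C.th a.1) (by omega)
    simp only [show (16 * C.fst a.1 + C.th a.1) / 16 = C.fst a.1 by omega,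
      show (16 * C.fst a.1 + C.th a.1) % 16 = C.th a.1 by omega, ((L.SI_iff _).1 a.2).2, Bool.not_true,
      Bool.false_or, Bool.or_eq_true] at h'
    rcases h' with h' | h' <;> rw [Nat.eq_of_beq_eq_true h'] <;> simp
  have h4 : (Finset.univ.filter fun a : {a : G // L.SI a} => partnerNum L.u (C.fst a.1) (C.th a.1) = 4).card = 96 := by
    rw [← Fintype.card_subtype, ← Nat.card_eq_fintype_card]
    refine (Nat.card_congr ?_).trans ((C.card_codes fun a b =>
      codeI L.u a b && Nat.beq (partnerNum L.u a b) 4).trans (by rw [Nat.eq_of_beq_eq_true hc24]))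
    exact
      { toFun := fun a => ⟨a.1.1, ((L.SI_iff _).1 a.1.2).1, by rw [((L.SI_iff _).1 a.1.2).2, a.2]; rfl⟩
        invFun := fun a => ⟨⟨a.1, (L.SI_iff _).2 ⟨a.2.1, (Bool.and_eq_true _ _ ▸ a.2.2).1⟩⟩,
          Nat.eq_of_beq_eq_true (Bool.and_eq_true _ _ ▸ a.2.2).2⟩
        left_inv := fun _ => rfl
        right_inv := fun _ => rfl }
  rw [Nat.card_congr eX, Nat.card_sigma, Finset.sum_congr rfl fun a _ => (hb a).trans (hval a), ← Finset.sum_filter,
    Finset.sum_const, h4, smul_eq_mul] at hX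
  have hY : Nat.card Y = 96 := by omega
  exact hY

theorem Cfg.numM_val : L.numM = 193 := by
  rw [L.numM_eq]
  have h := Five.even_count (e := L.bar L.z_Hv) L.z_bar_sq fun m hm => L.invol_conj hm.1 hm.2
  rw [L.card_comm_z, L.card_pairs_z, L.card_inv_MQ] at h
  omega

end Cfsg.Agent.Spor.SuzT.Rad
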