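import Cfsg.Agent.Lib.Spor.SuzR.Ord.Base

/-!
Counting pairs of involutions by the involution in the dihedral group they generate.
-/

set_option autoImplicit false
set_option linter.unusedSectionVars false

namespace Cfsg.Agent.Spor.SuzT.Five

universe u

variable {M : Type u} [Group M] [Finite M]

/-- an involution -/
def Inv2 (a : M) : Prop := a * a = 1 ∧ a ≠ 1

theorem Inv2.ord {a : M} (h : Inv2 a) : orderOf a = 2 :=
  Cfsg.Agent.Solv.CITGroups.orderOf_two_iff.2 h

theorem Inv2.conj {a : M} (h : Inv2 a) (c : M) : Inv2 (c * a * c⁻¹) :=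
  ⟨by rw [conj_mul, h.1]; group, fun e => h.2 (conj_eq_one_iff.1 e)⟩

theorem inv2_conj_iff {a c : M} : Inv2 (c * a * c⁻¹) ↔ Inv2 a :=
  ⟨fun h => by have := h.conj c⁻¹; rwa [show c⁻¹ * (c * a * c⁻¹) * c⁻¹⁻¹ = a by group] at this, fun h => h.conj c⟩

theorem refl_inverts {a b : M} (ha : a * a = 1) (hb : b * b = 1) : a * (a * b) * a⁻¹ = (a * b)⁻¹ := by
  rw [mul_inv_rev, inv_eq_of_mul_eq_one_right ha, inv_eq_of_mul_eq_one_right hb, ← mul_assoc, ha, one_mul]

/-- reflections in a dihedral group two steps apart are conjugate -/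
theorem refl_conj {a r : M} (ha : a * r * a⁻¹ = r⁻¹) (j i : ℕ) :
    IsConj (a * r ^ j) (a * r ^ (j + 2 * i)) := by
  refine isConj_iff.2 ⟨(r ^ i)⁻¹, ?_⟩
  have h : (r ^ i)⁻¹ * a = a * r ^ i := by
    have e : a * r ^ i * a⁻¹ = (r ^ i)⁻¹ := by rw [← conj_pow, ha, inv_pow]
    rw [← e, inv_mul_cancel_right]
  rw [inv_inv, ← mul_assoc, h, mul_assoc a, mul_assoc a, ← pow_add, ← pow_add]
  congr 2
  omega

/-- counting over a class of involutions -/
theorem card_pairs_fiber {e : M} (htr : ∀ m : M, Inv2 m → ∃ c, c * e * c⁻¹ = m) (P : M × M → M → Prop)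
    (hP : ∀ c : M, ∀ q w, P q w ↔ P (c * q.1 * c⁻¹, c * q.2 * c⁻¹) (c * w * c⁻¹)) :
    Nat.card {s : (M × M) × M // Inv2 s.2 ∧ P s.1 s.2} = Nat.card {w : M // Inv2 w} * Nat.card {q // P q e} := by
  classical
  haveI : Fintype {w : M // Inv2 w} := Fintype.ofFinite _
  have eqv : {s : (M × M) × M // Inv2 s.2 ∧ P s.1 s.2} ≃ Σ w : {w : M // Inv2 w}, {q // P q w.1} :=
    { toFun := fun s => ⟨⟨s.1.2, s.2.1⟩, ⟨s.1.1, s.2.2⟩⟩
      invFun := fun s => ⟨(s.2.1, s.1.1), s.1.2, s.2.2⟩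
      left_inv := fun _ => rfl
      right_inv := fun _ => rfl }
  have hc : ∀ w : {w : M // Inv2 w}, Nat.card {q // P q w.1} = Nat.card {q // P q e} := fun w => by
    obtain ⟨c, hcw⟩ := htr _ w.2
    refine (Nat.card_congr ((Equiv.prodCongr (MulAut.conj c).toEquiv (MulAut.conj c).toEquiv).subtypeEquiv
      fun q => ?_)).symm
    have h := hP c q e
    rw [hcw] at h
    exact h
  rw [Nat.card_congr eqv, Nat.card_sigma, Finset.sum_congr rfl fun w _ => hc w, Finset.sum_const, smul_eq_mul,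
    Finset.card_univ, ← Nat.card_eq_fintype_card]

/-- involutions split by the product with a fixed one -/
theorem even_count {e : M} (he : Inv2 e) (htr : ∀ m : M, Inv2 m → ∃ c, c * e * c⁻¹ = m) :
    Nat.card {m : M // Inv2 m ∧ Odd (orderOf (e * m))} + Nat.card {m : M // Inv2 m ∧ m ≠ e ∧ Commute e m} +
      Nat.card {q : M × M // Inv2 q.1 ∧ Inv2 q.2 ∧ ¬ Commute q.1 q.2 ∧ e ∈ Subgroup.zpowers (q.1 * q.2)} =
        Nat.card {m : M // Inv2 m} := by
  classical
  set B := Nat.card {m : M // Inv2 m ∧ ¬ Commute e m ∧ ¬ Odd (orderOf (e * m))} with hB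
  -- the two ways of counting pairs
  let P1 : M × M → M → Prop := fun q w =>
    Inv2 q.1 ∧ Inv2 q.2 ∧ ¬ Commute q.1 q.2 ∧ w ∈ Subgroup.zpowers (q.1 * q.2)
  have hconj : ∀ c a b : M, (Commute (c * a * c⁻¹) (c * b * c⁻¹) ↔ Commute a b) ∧
      c * a * c⁻¹ * (c * b * c⁻¹) = MulAut.conj c (a * b) := fun c a b =>
    ⟨Commute.conj_iff c, by simp [mul_assoc]⟩
  have h1 := card_pairs_fiber htr P1 fun c q w => by
    simp only [P1, inv2_conj_iff, (hconj c q.1 q.2).1, (hconj c q.1 q.2).2,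
      show c * w * c⁻¹ = MulAut.conj c w from rfl, Subgroup.mem_zpowers_iff, ← map_zpow,
      EmbeddingLike.apply_eq_iff_eq]
  let P2 : M × M → Prop := fun q => Inv2 q.1 ∧ Inv2 q.2 ∧ ¬ Commute q.1 q.2 ∧ ¬ Odd (orderOf (q.1 * q.2))
  have hev : ∀ {a b w : M}, Inv2 w → w ∈ Subgroup.zpowers (a * b) →
      ¬ Odd (orderOf (a * b)) ∧ w = (a * b) ^ (orderOf (a * b) / 2) := fun {a b w} hw hmem => by
    refine ⟨fun ho => ?_, Fusion.invol_unique_in_zpowers hw.ord hmem⟩
    have hd : orderOf w ∣ orderOf (a * b) := by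
      obtain ⟨k, rfl⟩ := mem_powers_iff_mem_zpowers.2 hmem
      exact orderOf_pow_dvd k
    rw [hw.ord] at hd
    exact Nat.not_even_iff_odd.2 ho (even_iff_two_dvd.2 hd)
  have h2 : Nat.card {s : (M × M) × M // Inv2 s.2 ∧ P1 s.1 s.2} = Nat.card {q // P2 q} := by
    refine Nat.card_congr
      { toFun := fun s => ⟨s.1.1, s.2.2.1, s.2.2.2.1, s.2.2.2.2.1, (hev s.2.1 s.2.2.2.2.2).1⟩
        invFun := fun q => ⟨(q.1, (q.1.1 * q.1.2) ^ (orderOf (q.1.1 * q.1.2) / 2)), ?_, q.2.1, q.2.2.1, q.2.2.2.1,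
          Subgroup.npow_mem_zpowers _ _⟩
        left_inv := fun s => Subtype.ext (Prod.ext rfl (hev s.2.1 s.2.2.2.2.2).2.symm)
        right_inv := fun _ => rfl }
    have h := S0209.result _ _ q.2.1.ord q.2.2.1.ord (Nat.not_odd_iff_even.1 q.2.2.2.2)
    exact Cfsg.Agent.Solv.CITGroups.orderOf_two_iff.1 h.1
  have h3 : Nat.card {q // P2 q} = Nat.card {m : M // Inv2 m} * B := by
    rw [hB]
    rw [← Spor.SuzT.Rad.card_orbit_fiber (K := (⊤ : Subgroup M)) (y₀ := e) (X := Inv2)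
      (fun y => ⟨fun h => ⟨(htr y h).choose, Subgroup.mem_top _, (htr y h).choose_spec⟩,
        fun ⟨c, _, hc⟩ => hc ▸ he.conj c⟩)
      (fun b a => Inv2 b ∧ ¬ Commute a b ∧ ¬ Odd (orderOf (a * b))) (fun c _ b a => by
        simp only [inv2_conj_iff, (hconj c a b).1, (hconj c a b).2, MulEquiv.orderOf_eq])]
    exact Nat.card_congr ((Equiv.prodComm M M).subtypeEquiv fun q => Iff.rfl)
  have hP0 : Nat.card {q : M × M // P1 q e} = B := by
    have h0 : 0 < Nat.card {m : M // Inv2 m} := Nat.card_pos_iff.2 ⟨⟨⟨e, he⟩⟩, inferInstance⟩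
    exact Nat.eq_of_mul_eq_mul_left h0 (h1.symm.trans (h2.trans h3))
  show _ + _ + Nat.card {q : M × M // P1 q e} = _
  rw [hP0, hB]
  haveI : Fintype M := Fintype.ofFinite M
  simp only [Nat.card_eq_fintype_card, Fintype.card_subtype]
  rw [← Finset.card_union_of_disjoint, ← Finset.card_union_of_disjoint]
  · congr 1
    ext m
    simp only [Finset.mem_union, Finset.mem_filter, Finset.mem_univ, true_and]
    constructor
    · rintro ((h | h) | h) <;> exact h.1
    · intro hm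
      by_cases ho : Odd (orderOf (e * m))
      · exact Or.inl (Or.inl ⟨hm, ho⟩)
      by_cases hc : Commute e m
      · refine Or.inl (Or.inr ⟨hm, fun h => ho ?_, hc⟩)
        rw [h, he.1, orderOf_one]; exact odd_one
      · exact Or.inr ⟨hm, hc, ho⟩
  · rw [Finset.disjoint_left]
    intro m hm hm'
    simp only [Finset.mem_union, Finset.mem_filter, Finset.mem_univ, true_and] at hm hm'
    rcases hm with h | h
    · exact hm'.2.2 h.2
    · exact hm'.2.1 h.2.2
  · rw [Finset.disjoint_left]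
    intro m hm hm'
    simp only [Finset.mem_filter, Finset.mem_univ, true_and] at hm hm'
    have h2' : (e * m) ^ 2 = 1 := by rw [hm'.2.2.mul_pow, pow_two, pow_two, he.1, hm'.1.1, one_mul]
    have h1' : orderOf (e * m) = 1 := Nat.eq_one_of_dvd_coprimes (Nat.coprime_two_right.2 hm.2) dvd_rfl
      (orderOf_dvd_of_pow_eq_one h2')
    exact hm'.2.1 (mul_left_cancel ((orderOf_eq_one_iff.1 h1').trans he.1.symm))

end Cfsg.Agent.Spor.SuzT.Five
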