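import Cfsg.Agent.Lib.Spor.SuzR.Ord.Count

/-!
Groups of Suzuki sporadic type: pairs of involutions around an involution of the second class.
-/

set_option autoImplicit false
set_option maxRecDepth 100000
set_option linter.unusedSectionVars false
set_option linter.style.haveILetI false

namespace Cfsg.Agent.Spor.SuzT.Rad

open Chk Dat Cfsg.Agent.Spor.SuzT.Five
open Cfsg.Agent.Solv.CITGroups (orderOf_two_iff)

universe u

variable {G : Type u} [Group G] [Finite G] {z : G} {Q : Subgroup G} {C : Ctx z Q} (L : Cfg C)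

theorem Cfg.zt_T : IsConj L.t (z * L.t) := by
  have h2 : z * L.t * (z * L.t) = 1 := by
    rw [show z * L.t * (z * L.t) = z * (L.t * z) * L.t by group, L.tz.eq, ← mul_assoc, zz C.hy, one_mul, L.sq]
  have h1 : z * L.t ≠ 1 := fun e => L.not_D (by
    rw [← inv_eq_of_mul_eq_one_right e, inv_eq_of_mul_eq_one_right (zz C.hy)])
  exact (L.T_iff h2 h1).2 L.not_zt

/-- a conjugate of the first involution commuting with the second times the latter lies in the second class -/
theorem Cfg.Dt_T {d : G} (hD : IsConj z d) (hd : Commute d L.t) : IsConj L.t (d * L.t) := by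
  obtain ⟨g, hg, rfl⟩ := L.D_trans hd hD
  refine L.zt_T.trans (isConj_iff.2 ⟨g, ?_⟩)
  rw [show g * (z * L.t) * g⁻¹ = g * z * g⁻¹ * (g * L.t * g⁻¹) by group, (L.mem_H.1 hg).eq, mul_inv_cancel_right]

theorem Cfg.D_in_Hv {d : G} (hD : IsConj z d) (hd : Commute d L.t) : d ∈ L.Hv := by
  obtain ⟨g, hg, rfl⟩ := L.D_trans_Hv hd hD
  exact mul_mem (mul_mem hg L.z_Hv) (inv_mem hg)

theorem Cfg.D_bar_inv {d : G} (hD : IsConj z d) (hd : Commute d L.t) : Inv2 (L.bar (L.D_in_Hv hD hd)) := by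
  refine ⟨?_, fun e => L.V_not_D ((L.bar_one_iff _).1 e) hD⟩
  rw [← L.bar_mul, L.bar_one_iff, (D_sq C.hy hD).1]
  exact one_mem _

theorem Cfg.D_bar_inj {d d' : G} (hD : IsConj z d) (hD' : IsConj z d') (hd : d ∈ L.Hv) (hd' : d' ∈ L.Hv)
    (e : L.bar hd = L.bar hd') : d = d' := by
  have hw := (L.bar_eq hd hd').1 e
  have h1 := L.coset_D hD hd hw (by rwa [mul_inv_cancel_left])
  exact inv_mul_eq_one.1 h1

/-- conjugates of the first involution commuting with the second, and involutions of the quotient -/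
noncomputable def Cfg.equivD : {d : G // IsConj z d ∧ Commute d L.t} ≃ {m : L.MQ // Inv2 m} :=
  Equiv.ofBijective (fun d => ⟨L.bar (L.D_in_Hv d.2.1 d.2.2), L.D_bar_inv d.2.1 d.2.2⟩) (by
    constructor
    · intro d d' e
      exact Subtype.ext (L.D_bar_inj d.2.1 d'.2.1 _ _ (congrArg Subtype.val e))
    · rintro ⟨m, hm⟩
      obtain ⟨d, hd, hD, rfl⟩ := L.invol_image hm.1 hm.2
      exact ⟨⟨d, hD, (L.mem_Hv.1 hd).1⟩, rfl⟩)

theorem Cfg.card_inv_MQ : Nat.card {m : L.MQ // Inv2 m} = 315 := by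
  rw [← Nat.card_congr L.equivD, L.card_D_Ct]

theorem Cfg.odd_iff {d : G} (hD : IsConj z d) (hd : Commute d L.t) :
    Odd (orderOf (z * d)) ↔ Odd (orderOf (L.bar L.z_Hv * L.bar (L.D_in_Hv hD hd))) := by
  have hm := L.D_in_Hv hD hd
  rw [← L.bar_mul L.z_Hv hm]
  refine ⟨fun h => h.of_dvd_nat (orderOf_dvd_of_pow_eq_one ?_), fun h => ?_⟩
  · rw [← L.bar_pow, L.bar_one_iff, pow_orderOf_eq_one]
    exact one_mem _
  · obtain ⟨n, hn⟩ : ∃ n, n = orderOf (L.bar (mul_mem L.z_Hv hm)) := ⟨_, rfl⟩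
    rw [← hn] at h
    have hw : (z * d) ^ n ∈ L.V := by
      rw [← L.bar_one_iff (pow_mem (mul_mem L.z_Hv hm) n), L.bar_pow (mul_mem L.z_Hv hm), hn, pow_orderOf_eq_one]
    have hinv := refl_inverts (zz C.hy) (D_sq C.hy hD).1
    obtain ⟨k, hk⟩ := h
    have hc := refl_conj hinv 1 k
    rw [pow_one, ← mul_assoc, zz C.hy, one_mul, show 1 + 2 * k = n by omega] at hc
    have hw1 := L.coset_D (IsConj.refl z) L.z_Hv hw (hD.trans hc)
    exact (show Odd n from ⟨k, hk⟩).of_dvd_nat (orderOf_dvd_of_pow_eq_one hw1)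

/-- pairs around the second involution correspond to odd products with the first -/
theorem Cfg.numM_eq : L.numM = Nat.card {m : L.MQ // Inv2 m ∧ Odd (orderOf (L.bar L.z_Hv * m))} := by
  have hfor : ∀ y : G, IsConj L.t y → L.t ∈ Subgroup.zpowers (z * y) →
      (IsConj z (y * L.t) ∧ Commute (y * L.t) L.t) ∧ Odd (orderOf (z * (y * L.t))) := by
    intro y hy hmem
    obtain ⟨hyy, -⟩ := L.T_sq hy
    obtain ⟨-, hyt⟩ := commute_central (zz C.hy) hyy L.sq hmem
    set r := z * y with hr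
    have hinv : z * r * z⁻¹ = r⁻¹ := refl_inverts (zz C.hy) hyy
    have ht2 : orderOf L.t = 2 := orderOf_two_iff.2 ⟨L.sq, L.ne_one⟩
    have hte := Fusion.invol_unique_in_zpowers ht2 hmem
    set k := orderOf r / 2 with hk
    have h2k : 2 * k = orderOf r := by
      obtain ⟨i, hi⟩ : 2 ∣ orderOf r := by
        obtain ⟨j, hj⟩ := mem_powers_iff_mem_zpowers.2 hmem
        rw [← ht2, ← hj]
        exact orderOf_pow_dvd j
      omega
    have hkodd : Odd k := by
      refine Nat.not_even_iff_odd.1 fun ⟨i, hi⟩ => L.not_zt ?_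
      have h := refl_conj hinv 0 i
      rwa [pow_zero, mul_one, Nat.zero_add, show 2 * i = k by omega, ← hte] at h
    obtain ⟨i, hi⟩ := hkodd
    have hyr : y * L.t = z * r ^ (k + 1) := by
      rw [pow_succ', ← mul_assoc, hr, ← mul_assoc z, zz C.hy, one_mul, ← hr, ← hte]
    refine ⟨⟨?_, hyt.mul_left (Commute.refl _)⟩, ?_⟩
    · rw [hyr]
      have h := refl_conj hinv 0 (i + 1)
      rwa [pow_zero, mul_one, Nat.zero_add, show 2 * (i + 1) = k + 1 by omega] at h
    · rw [hyr, ← mul_assoc, zz C.hy, one_mul]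
      refine (show Odd k from ⟨i, hi⟩).of_dvd_nat (orderOf_dvd_of_pow_eq_one ?_)
      rw [← pow_mul, show (k + 1) * k = orderOf r * (i + 1) by rw [← h2k, hi]; ring, pow_mul, pow_orderOf_eq_one,
        one_pow]
  have hback : ∀ d : G, IsConj z d → Commute d L.t → Odd (orderOf (z * d)) →
      IsConj L.t (d * L.t) ∧ L.t ∈ Subgroup.zpowers (z * (d * L.t)) := by
    intro d hD hd ho
    refine ⟨L.Dt_T hD hd, ?_⟩
    have hc : Commute (z * d) L.t := L.tz.symm.mul_left hd
    obtain ⟨i, hi⟩ := ho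
    have e : (z * (d * L.t)) ^ orderOf (z * d) = L.t := by
      rw [← mul_assoc, hc.mul_pow, pow_orderOf_eq_one, one_mul, hi, pow_succ, pow_mul, pow_two, L.sq, one_pow, one_mul]
    exact Subgroup.mem_zpowers_iff.2 ⟨_, (zpow_natCast _ _).trans e⟩
  have hmid : L.numM = Nat.card {d : {d : G // IsConj z d ∧ Commute d L.t} // Odd (orderOf (z * (d : G)))} := by
    refine Nat.card_congr
      { toFun := fun y => ⟨⟨y.1 * L.t, (hfor y.1 y.2.1 y.2.2).1⟩, (hfor y.1 y.2.1 y.2.2).2⟩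
        invFun := fun d => ⟨d.1.1 * L.t, hback d.1.1 d.1.2.1 d.1.2.2 d.2⟩
        left_inv := fun y => Subtype.ext (by show y.1 * L.t * L.t = y.1; rw [mul_assoc, L.sq, mul_one])
        right_inv := fun d => Subtype.ext (Subtype.ext (by show d.1.1 * L.t * L.t = d.1.1; rw [mul_assoc, L.sq, mul_one])) }
  rw [hmid, Nat.card_congr (L.equivD.subtypeEquiv (q := fun m : {m : L.MQ // Inv2 m} => Odd (orderOf (L.bar L.z_Hv * (m : L.MQ))))
    fun d => L.odd_iff d.2.1 d.2.2)]
  exact Nat.card_congr (Equiv.subtypeSubtypeEquivSubtypeInter (Inv2 (M := L.MQ))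
    (fun m => Odd (orderOf (L.bar L.z_Hv * m))))

end Cfsg.Agent.Spor.SuzT.Rad
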