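import Cfsg.Agent.Lib.Spor.SuzR.Ord.ZPart

/-!
Groups of Suzuki sporadic type: the order modulo one hundred and twenty-five.
-/

set_option autoImplicit false
set_option maxRecDepth 100000
set_option linter.unusedSectionVars false

namespace Cfsg.Agent.Spor.SuzT.Rad

universe u

variable {G : Type u} [Group G] [Finite G] {z : G} {Q : Subgroup G} {C : Ctx z Q} (L : Cfg C)

include L in
theorem Cfg.order_five : ∃ m : ℕ, Nat.card G = 25 * m ∧ m % 5 = 4 := by
  refine ⟨41803776 * L.numN + 41803776 * L.numM, ?_, ?_⟩
  · rw [L.order_eq]; omega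
  · rw [L.numM_val]
    have := L.numN_mod
    omega

end Cfsg.Agent.Spor.SuzT.Rad
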