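import Cfsg.Agent.Lib.Spor.SuzR.SevenTop

/-!
Finite checks for the pairs of involutions around the central involution.
-/

set_option autoImplicit false
set_option maxRecDepth 100000
set_option linter.unusedSectionVars false

namespace Cfsg.Agent.Spor.SuzT.Rad

open Chk Dat

/-- a transvection fixing the first point lies in its radical -/
def fixRootOK : Bool :=
  clsA.all fun e => !(Nat.beq (app e.1 1) 1) || rad.any fun f => f.1 == e.1

theorem fix_root_ok : fixRootOK = true := by decide +kernel

/-- powers of a column list -/
def powL (m : List ℕ) : ℕ → List ℕ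
  | 0 => idL
  | i + 1 => mulL (powL m i) m

/-- even powers of a product of the two classes avoid the first class -/
def evenPowOK : Bool :=
  clsA.all fun e =>
    let m := mulL (mulL e.1 sc) (mulL e.1 sc)
    powL m 6 == idL && (List.range 6).all fun i => !(clsA.any fun f => f.1 == powL m i)

theorem even_pow_ok : evenPowOK = true := by decide +kernel

/-- codes in the radical subgroup of conjugates of the first involution, with the identity -/
def codeD (a b : ℕ) : Bool := sqB a b && Nat.beq (q4 b) 0

/-- the square of the product with a conjugate is the second involution -/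
def moved (L : List ℕ) (a b : ℕ) : Bool :=
  codeD a b && Nat.beq (sz (Nat.xor a (act4 L a)) (Nat.xor b (act4 L b))) 0 &&
    Nat.beq (sx (Nat.xor a (act4 L a)) (Nat.xor b (act4 L b))) 1

/-- an outer involution of the second class around a point -/
def transOK : Bool :=
  clsC.all fun e => !(Nat.beq (app e.1 1) 1) || (rad.any fun f => f.1 == e.1) ||
    (List.range 16).all fun k => !(!(Nat.beq k 0) && Nat.beq (q4 k) 0 && Nat.beq (act4 e.1 k) k) ||
      (Nat.beq ((List.range 256).filter fun n => moved e.1 (n / 16) (n % 16)).length 4 &&
        (List.range 256).all fun n => !(codeD (n / 16) (n % 16)) ||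
          !(Nat.beq (act4 e.1 (n / 16)) (n / 16) && Nat.beq (act4 e.1 (n % 16)) (n % 16)) ||
            cmB k 0 (n / 16) (n % 16))

theorem trans_ok : transOK = true := by decide +kernel

/-- the square of the product with the second involution -/
def sqTo (u : ℕ) (i j : ℕ) (a b : ℕ) : Bool :=
  codeD a b && Nat.beq (sz (Nat.xor a u) (Nat.xor b 4)) i && Nat.beq (sx (Nat.xor a u) (Nat.xor b 4)) j

/-- counts around the second involution -/
def zCountOK : Bool :=
  (List.range 16).all fun u => !(sixB u) ||
    (Nat.beq ((List.range 256).filter fun n => sqTo u 0 1 (n / 16) (n % 16)).length 3 &&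
      Nat.beq ((List.range 256).filter fun n => sqTo u 1 1 (n / 16) (n % 16)).length 3 &&
      Nat.beq ((List.range 256).filter fun n => cmB u 4 (n / 16) (n % 16) && codeD (n / 16) (n % 16)).length 7 &&
      Nat.beq ((List.range 256).filter fun n =>
        cmB u 4 (n / 16) (n % 16) && sqB (n / 16) (n % 16) && Nat.beq (n % 16) 0).length 3 &&
      (List.range 16).all fun r => !(cmB u 4 r 0 && sqB r 0 && !(Nat.beq r 0)) ||
        (List.range 16).any fun j => Nat.beq (cx j 0 u 4) 1 && cmB j 0 r 0)

theorem z_count_ok : zCountOK = true := by decide +kernel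

end Cfsg.Agent.Spor.SuzT.Rad
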