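import Cfsg.Agent.Lib.Spor.SuzR.Ord.UPart
import Cfsg.Agent.Lib.Spor.SuzR.Ord.ZCheck

/-!
Groups of Suzuki sporadic type: dihedral groups around involutions commuting with the central involution.
-/

set_option autoImplicit false
set_option maxRecDepth 100000
set_option linter.unusedSectionVars false
set_option linter.style.haveILetI false

namespace Cfsg.Agent.Spor.SuzT.Rad

open Chk Dat Cfsg.Agent.Spor.SuzT.Five
open Cfsg.Agent.Solv.CITGroups (orderOf_two_iff)

universe u

variable {G : Type u} [Group G] [Finite G] {z : G} {Q : Subgroup G}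

theorem Ctx.D_core_or (C : Ctx z Q) {d : G} (hD : IsConj z d) (hd : Commute d z) :
    d ∈ Q ∨ IsConj (C.pi d) sA := by
  obtain ⟨hdd, -⟩ := D_sq C.hy hD
  by_cases h : C.pi d = 1
  · exact Or.inl (C.pi_mem hd h)
  · refine Or.inr ((invol_class (C.pi_sq hd hdd) h).resolve_right fun hc => C.not_D hd hdd hc hD)

/-- conjugates of the central involution centralising it and the point lie in the radical subgroup -/
theorem Ctx.D_cent_R (C : Ctx z Q) {d : G} (hD : IsConj z d) (hd : Commute d z) (hx : Commute d C.x) : d ∈ C.R := by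
  rcases C.D_core_or hD hd with hQ | hA
  · exact C.A_le (C.mem_A.2 ⟨hQ, hx⟩)
  obtain ⟨hdd, -⟩ := D_sq C.hy hD
  obtain ⟨e, he, hcols⟩ := (cls_spec clsA_ok rep_spec.1).2 _ hA.symm
  have hfix := C.pi_fix hd (Or.inl (mul_inv_eq_iff_eq_mul.2 hx.eq))
  have h1 : app e.1 1 = 1 := by
    have := enc_smul hcols e0
    rwa [hfix, e0_facts.2.2, eq_comm] at this
  have h := List.all_eq_true.mp fix_root_ok e he
  rw [h1, Nat.beq_refl, Bool.not_true, Bool.false_or] at h
  exact C.lift_inR hd hdd (radAt_of_list hcols h1 h) fun e1 => rep_spec.2.2.2.2.1 (by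
    obtain ⟨g, hg⟩ := isConj_iff.1 hA
    rw [e1, mul_one, mul_inv_cancel] at hg
    exact hg.symm)

theorem isCols_powL {g : Ga} {m : List ℕ} (h : IsCols (g : OG) m) : ∀ i, IsCols ((g ^ i : Ga) : OG) (powL m i)
  | 0 => by rw [pow_zero]; exact IsCols.one
  | i + 1 => by rw [pow_succ]; exact (isCols_powL h i).mul h

/-- even powers of a product of the two classes avoid the first class -/
theorem even_pow_not_A {a : Ga} (ha : IsConj a sA) (i : ℕ) :
    ¬ IsConj ((a * sC * (a * sC)) ^ i) sA := by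
  obtain ⟨e, he, hcols⟩ := (cls_spec clsA_ok rep_spec.1).2 a ha.symm
  have hac : IsCols ((a * sC : Ga) : OG) (mulL e.1 sc) := hcols.mul rep_spec.2.1
  have hm : IsCols ((a * sC * (a * sC) : Ga) : OG) (mulL (mulL e.1 sc) (mulL e.1 sc)) := hac.mul hac
  set g := a * sC * (a * sC) with hg
  have h := List.all_eq_true.mp even_pow_ok e he
  simp only [Bool.and_eq_true, List.all_eq_true, List.mem_range, beq_iff_eq] at h
  have h6 : g ^ 6 = 1 := Subtype.ext ((isCols_powL hm 6).ext (by rw [h.1]; exact IsCols.one))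
  intro hA
  have hr : g ^ i = g ^ (i % 6) := by
    conv_lhs => rw [← Nat.div_add_mod i 6, pow_add, pow_mul, h6, one_pow, one_mul]
  rw [hr] at hA
  obtain ⟨f, hf, hfc⟩ := (cls_spec clsA_ok rep_spec.1).2 _ hA.symm
  have h2 := h.2 (i % 6) (Nat.mod_lt _ (by norm_num))
  rw [(isCols_powL hm (i % 6)).unique hfc, Bool.not_eq_true', ← Bool.not_eq_true] at h2
  exact h2 (List.any_eq_true.2 ⟨f, hf, by simp⟩)

variable {C : Ctx z Q} (L : Cfg C)

/-- conjugates of the central involution commuting with it that make a pair around a third involution -/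
def Cfg.Around (w u : G) : Prop :=
  IsConj z u ∧ Commute u z ∧ ¬ Commute u L.t ∧ w ∈ Subgroup.zpowers (u * L.t)

/-- the involutions that occur as third ones -/
def Cfg.Wset (w : G) : Prop := IsConj z w ∧ w ∈ Q ∧ Commute w L.t ∧ w ≠ z

theorem Cfg.around_mem {w u : G} (hu : IsConj z u) (huz : Commute u z) (hnt : ¬ Commute u L.t)
    (hnz : z ∉ Subgroup.zpowers (u * L.t)) (hw : w * w = 1) (hw1 : w ≠ 1)
    (hmem : w ∈ Subgroup.zpowers (u * L.t)) : L.Wset w := by
  obtain ⟨huu, -⟩ := D_sq C.hy hu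
  obtain ⟨huw, htw⟩ := commute_central huu L.sq hw hmem
  have hrz : Commute (u * L.t) z := huz.mul_left L.tz
  have hwz : Commute w z := by
    obtain ⟨n, rfl⟩ := hmem
    exact hrz.zpow_left n
  have hne : w ≠ z := fun e => hnz (e ▸ hmem)
  set r := u * L.t with hr
  have hinv : u * r * u⁻¹ = r⁻¹ := refl_inverts huu L.sq
  have hwo : orderOf w = 2 := orderOf_two_iff.2 ⟨hw, hw1⟩
  have hwe := Fusion.invol_unique_in_zpowers hwo hmem
  set k := orderOf r / 2 with hk
  have h2k : orderOf r = 2 * k := by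
    obtain ⟨i, hi⟩ : 2 ∣ orderOf r := by
      obtain ⟨j, hj⟩ := mem_powers_iff_mem_zpowers.2 hmem
      rw [← hwo, ← hj]
      exact orderOf_pow_dvd j
    omega
  have hur : u * r = L.t := by rw [hr, ← mul_assoc, huu, one_mul]
  -- the power of odd exponent
  have hwD_even : IsConj z w → Even k := fun hD => Nat.not_odd_iff_even.1 fun ⟨i, hi⟩ => by
    refine L.not_D ((hu.trans ?_).trans (L.Dt_T hD htw.symm).symm)
    rw [htw.symm.eq, ← hur, hwe, mul_assoc, ← pow_succ']
    have h := refl_conj hinv 0 (i + 1)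
    rwa [pow_zero, mul_one, Nat.zero_add, show 2 * (i + 1) = k + 1 by omega] at h
  have hwD : IsConj z w := by
    refine (L.invol_class' hw hw1).resolve_right fun hT => ?_
    obtain ⟨c, hcz, hc⟩ := L.T_trans_C hwz hT
    set d := c⁻¹ * u * c with hd
    have hdD : IsConj z d := hu.trans (isConj_iff.2 ⟨c⁻¹, by rw [hd]; group⟩)
    have hconj : ∀ {g : G}, Commute g w → Commute g z → c⁻¹ * g * c ∈ L.S := fun {g} h1 h2 => by
      refine L.mem_S.2 ⟨?_, (hcz.inv_left.mul_left h2).mul_left hcz⟩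
      have h := (Commute.conj_iff c⁻¹).2 h1
      rwa [inv_inv, ← hc, show c⁻¹ * (c * L.t * c⁻¹) * c = L.t by group] at h
    rcases Nat.even_or_odd k with ⟨i, hi⟩ | hko
    · have hi' : r ^ (0 + 2 * i) = w := by rw [show 0 + 2 * i = k by omega]; exact hwe.symm
      have h := refl_conj hinv 0 i
      rw [pow_zero, mul_one, hi'] at h
      refine L.not_D (((hu.trans h).trans (isConj_iff.2 ⟨c⁻¹, ?_⟩)).trans
        (L.Dt_T hdD (L.mem_S.1 (hconj huw huz)).1).symm)
      rw [hd, inv_inv, ← hc]; group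
    · obtain ⟨j, hj⟩ := (Nat.dvd_prime_pow Nat.prime_two).1
        (show orderOf (c⁻¹ * r * c) ∣ 2 ^ 9 by
          have h := Subgroup.orderOf_dvd_natCard L.S (hconj (huw.mul_left htw) hrz)
          rwa [L.toLoc.card_S] at h)
      have hord : orderOf (c⁻¹ * r * c) = orderOf r := by
        rw [show c⁻¹ * r * c = MulAut.conj c⁻¹ r by simp, MulEquiv.orderOf_eq]
      rw [hord, h2k] at hj
      have hk1 : k = 1 := by
        rcases j with _ | j
        · simp at hj
        rw [pow_succ', Nat.mul_left_cancel_iff (by norm_num)] at hj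
        rcases j with _ | j
        · simpa using hj.2
        · exfalso
          refine Nat.not_even_iff_odd.2 hko ?_
          rw [hj.2, pow_succ]
          exact even_two.mul_left _
      refine hnt ?_
      have h1 : r * r = 1 := by rw [← pow_two, show 2 = orderOf r by omega, pow_orderOf_eq_one]
      show r = L.t * u
      rw [← inv_eq_of_mul_eq_one_right h1, hr, mul_inv_rev, inv_eq_of_mul_eq_one_right huu,
        inv_eq_of_mul_eq_one_right L.sq]
  refine ⟨hwD, ?_, htw.symm, hne⟩
  obtain ⟨i, hi⟩ := hwD_even hwD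
  rcases C.D_core_or hwD hwz with hQ | hA
  · exact hQ
  exfalso
  have hpow : ∀ n : ℕ, C.pi (r ^ n) = C.pi r ^ n := fun n => by
    induction n with
    | zero => rw [pow_zero, pow_zero, C.pi_one]
    | succ n ih => rw [pow_succ, pow_succ, C.pi_mul (hrz.pow_left n) hrz, ih]
  have hπ : C.pi w = (C.pi r * C.pi r) ^ i := by
    rw [hwe, hpow, hi, ← two_mul, pow_mul, pow_two]
  have hπr : C.pi r = C.pi u * sC := by
    rw [hr, C.pi_mul huz L.tz, C.pi_four L.mem L.four]
  rcases C.D_core_or hu huz with hQ | hA'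
  · rw [hπ, hπr, C.pi_core hQ, one_mul, rep_spec.2.2.2.1, one_pow] at hA
    obtain ⟨g, hg⟩ := isConj_iff.1 hA
    rw [mul_one, mul_inv_cancel] at hg
    exact rep_spec.2.2.2.2.1 hg.symm
  · rw [hπ, hπr] at hA
    exact even_pow_not_A hA' i hA

end Cfsg.Agent.Spor.SuzT.Rad
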