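import Cfsg.Agent.Lib.Spor.SuzR.Ord.ZTrans

/-!
Groups of Suzuki sporadic type: pairs of involutions around the central involution, modulo five.
-/

set_option autoImplicit false
set_option maxRecDepth 100000
set_option linter.unusedSectionVars false
set_option linter.style.haveILetI false

namespace Cfsg.Agent.Spor.SuzT.Rad

open Chk Dat Cfsg.Agent.Spor.SuzT.Five
open Cfsg.Agent.Solv.CITGroups (orderOf_two_iff)

theorem sing_num : (Finset.univ.filter fun v : V => qm v = 0).card = 28 := by decide +kernel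

universe u

variable {G : Type u} [Group G] [Finite G] {z : G} {Q : Subgroup G}

theorem Ctx.card_core_invol (C : Ctx z Q) : Nat.card {q : G // q ∈ Q ∧ q * q = 1} = 56 := by
  classical
  let f : {q : G // q ∈ Q ∧ q * q = 1} → {v : V // qm v = 0} := fun q =>
    ⟨C.F.vec q.1, (C.F.sq_iff q.1 q.2.1).1 q.2.2⟩
  have h2 := card_fibres f 2 fun v => by
    obtain ⟨q, hq, hqv⟩ := C.F.vec_surj v.1
    have hqq : q * q = 1 := (C.F.sq_iff q hq).2 (hqv ▸ v.2)
    have hqz : q * z * (q * z) = 1 := by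
      rw [show q * z * (q * z) = q * (z * q) * z by group, ← (Qz C.hy hq).eq, ← mul_assoc, hqq, one_mul, zz C.hy]
    refine Nat.card_eq_two_iff.2 ⟨⟨⟨q, hq, hqq⟩, Subtype.ext hqv⟩, ⟨⟨q * z, mul_mem hq (zQ C.hy), hqz⟩,
      Subtype.ext ((vec_mul_z C.F C.hy hq).trans hqv)⟩, ?_, ?_⟩
    · intro e
      exact z_ne C.hy (mul_eq_left.1 (congrArg (fun a => a.1.1) e).symm)
    · refine Set.eq_univ_of_forall fun a => ?_
      rcases vec_eq C.F a.1.2.1 hq C.hy ((congrArg Subtype.val a.2).trans hqv.symm) with e | e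
      · exact Or.inl (Subtype.ext (Subtype.ext e))
      · exact Or.inr (Subtype.ext (Subtype.ext e))
  rw [h2, Nat.card_eq_fintype_card, Fintype.card_subtype, sing_num]

theorem Ctx.card_outer_five (C : Ctx z Q) :
    5 ∣ Nat.card {u : G // IsConj z u ∧ Commute u z ∧ u ∉ Q} := by
  classical
  haveI : Fact (Nat.Prime 5) := ⟨by norm_num⟩
  haveI : Fintype {u : G // IsConj z u ∧ Commute u z ∧ u ∉ Q} := Fintype.ofFinite _
  obtain ⟨b, hb⟩ := exists_prime_orderOf_dvd_card' (G := Subgroup.centralizer ({z} : Set G)) 5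
    (by rw [C.hy.cardC]; norm_num)
  have hbz : Commute (b : G) z := mem_C.1 b.2
  have hstep : ∀ u : G, (IsConj z u ∧ Commute u z ∧ u ∉ Q) ↔
      (IsConj z ((b : G) * u * (b : G)⁻¹) ∧ Commute ((b : G) * u * (b : G)⁻¹) z ∧ (b : G) * u * (b : G)⁻¹ ∉ Q) := by
    intro u
    have hback : (b : G)⁻¹ * ((b : G) * u * (b : G)⁻¹) * b = u := by group
    refine ⟨fun ⟨h1, h2, h3⟩ => ⟨h1.trans (isConj_iff.2 ⟨b, rfl⟩), (hbz.mul_left h2).mul_left hbz.inv_left,
      fun h => h3 ?_⟩, fun ⟨h1, h2, h3⟩ => ⟨h1.trans (isConj_iff.2 ⟨(b : G)⁻¹, by group⟩), ?_,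
      fun h => h3 (C.hy.norm _ hbz u h)⟩⟩
    · have := C.hy.norm _ hbz.inv_left _ h
      rwa [inv_inv, hback] at this
    · have := (hbz.inv_left.mul_left h2).mul_left hbz
      rwa [hback] at this
  let σ : Equiv.Perm {u : G // IsConj z u ∧ Commute u z ∧ u ∉ Q} :=
    (MulAut.conj (b : G)).toEquiv.subtypeEquiv hstep
  have hpow : ∀ n : ℕ, ∀ u, ((σ ^ n) u : G) = (b : G) ^ n * u * ((b : G) ^ n)⁻¹ := by
    intro n
    induction n with
    | zero => intro u; simp
    | succ n ih =>
      intro u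
      rw [pow_succ', Equiv.Perm.mul_apply]
      show (b : G) * ((σ ^ n) u : G) * (b : G)⁻¹ = _
      rw [ih]; group
  have hσ : σ ^ 5 ^ 1 = 1 := by
    refine Equiv.ext fun u => Subtype.ext ?_
    rw [pow_one, hpow, ← SubgroupClass.coe_pow, ← hb, pow_orderOf_eq_one]
    simp
  have hfix : σ.supportᶜ = ∅ := by
    refine Finset.eq_empty_of_forall_notMem fun u hu => ?_
    rw [Finset.mem_compl, Equiv.Perm.notMem_support] at hu
    have hc : Commute (b : G) u.1 := mul_inv_eq_iff_eq_mul.1 (congrArg Subtype.val hu)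
    obtain ⟨hD, huz, huQ⟩ := u.2
    have hπ : Commute (C.pi b) (C.pi u.1) := by
      show _ = _
      rw [← C.pi_mul hbz huz, ← C.pi_mul huz hbz, hc.eq]
    have hne : C.pi u.1 ≠ 1 := fun e => huQ (C.pi_mem huz e)
    have h1 := no_five (C.pi_sq huz (D_sq C.hy hD).1) hne
      (show C.pi (b : G) ^ 5 = 1 by rw [C.pi_eq hbz, ← map_pow, show cC hbz = b from rfl, ← hb, pow_orderOf_eq_one, map_one])
      hπ
    have hd := orderOf_dvd_natCard (⟨b, C.pi_mem hbz h1⟩ : Q)
    rw [← Subgroup.orderOf_coe, show ((⟨(b : G), C.pi_mem hbz h1⟩ : Q) : G) = (b : G) from rfl, Subgroup.orderOf_coe,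
      hb, C.hy.card] at hd
    norm_num at hd
  have h := Equiv.Perm.card_compl_support_modEq hσ
  rw [hfix, Finset.card_empty] at h
  rw [Nat.card_eq_fintype_card]
  exact (Nat.modEq_zero_iff_dvd).1 h.symm

variable {C : Ctx z Q} (L : Cfg C)

theorem Cfg.card_DS : Nat.card {u : G // IsConj z u ∧ Commute u z ∧ Commute u L.t} = 27 := by
  classical
  haveI : Fintype G := Fintype.ofFinite G
  have hcode := List.all_eq_true.mp z_count_ok L.u (List.mem_range.mpr L.u_lt)
  rw [L.six, Bool.not_true, Bool.false_or] at hcode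
  simp only [Bool.and_eq_true] at hcode
  have h := C.card_codes fun a b => cmB L.u 4 a b && codeD a b
  rw [Nat.eq_of_beq_eq_true hcode.1.1.2, Nat.card_eq_fintype_card, Fintype.card_subtype] at h
  have e : (Finset.univ.filter fun u : G => u ∈ C.R ∧ (cmB L.u 4 (C.fst u) (C.th u) && codeD (C.fst u) (C.th u)) = true) =
      insert 1 (Finset.univ.filter fun u : G => IsConj z u ∧ Commute u z ∧ Commute u L.t) := by
    ext u
    simp only [Finset.mem_filter, Finset.mem_univ, true_and, Finset.mem_insert, Bool.and_eq_true]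
    constructor
    · rintro ⟨hR, h1, h2⟩
      exact ((C.codeD_iff hR).2 h2).imp id fun hD => ⟨hD, hR.1, (L.comm_t hR).2 h1⟩
    · rintro (rfl | ⟨hD, hz, ht⟩)
      · exact ⟨one_mem _, (L.comm_t (one_mem _)).1 (Commute.one_left _), (C.codeD_iff (one_mem _)).1 (Or.inl rfl)⟩
      · have hR : u ∈ C.R := (L.mem_S₀.1 (L.D_S (L.mem_S.2 ⟨ht, hz⟩) hD)).1
        exact ⟨hR, (L.comm_t hR).1 ht, (C.codeD_iff hR).1 (Or.inr hD)⟩
  rw [e, Finset.card_insert_of_notMem (by
    simp only [Finset.mem_filter, Finset.mem_univ, true_and, not_and]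
    exact fun hD => absurd rfl (D_sq C.hy hD).2)] at h
  rw [Nat.card_eq_fintype_card, Fintype.card_subtype]
  omega

theorem Cfg.card_Wset : Nat.card {w : G // L.Wset w} = 10 := by
  classical
  haveI : Fintype G := Fintype.ofFinite G
  have htth : C.th L.t ≠ 0 := by rw [L.four]; norm_num
  have hcode := List.all_eq_true.mp z_count_ok L.u (List.mem_range.mpr L.u_lt)
  rw [L.six, Bool.not_true, Bool.false_or] at hcode
  simp only [Bool.and_eq_true] at hcode
  have h := C.card_codes fun a b => cmB L.u 4 a b && sqB a b && Nat.beq b 0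
  rw [Nat.eq_of_beq_eq_true hcode.1.2, Nat.card_eq_fintype_card, Fintype.card_subtype] at h
  have e : (Finset.univ.filter fun u : G => u ∈ C.R ∧
      (cmB L.u 4 (C.fst u) (C.th u) && sqB (C.fst u) (C.th u) && Nat.beq (C.th u) 0) = true) =
      insert 1 (insert z (Finset.univ.filter fun w : G => L.Wset w)) := by
    ext u
    simp only [Finset.mem_filter, Finset.mem_univ, true_and, Finset.mem_insert, Bool.and_eq_true]
    constructor
    · rintro ⟨hR, ⟨h1, h2⟩, h3⟩
      by_cases hu1 : u = 1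
      · exact Or.inl hu1
      by_cases huz : u = z
      · exact Or.inr (Or.inl huz)
      have hth := Nat.eq_of_beq_eq_true h3
      have hQ : u ∈ Q := C.pi_mem hR.1 ((rad_spec hR.2.2).2.1.1 hth)
      obtain ⟨ht, huu⟩ : Commute u L.t ∧ u * u = 1 := by
        have hSI := (L.SI_iff u).2 ⟨hR, by simp only [codeI, h1, h2, Bool.and_self]⟩
        exact ⟨(L.mem_S₀.1 hSI.1).2, hSI.2⟩
      exact Or.inr (Or.inr ⟨C.conj_of_core hQ huu hu1, hQ, ht, huz⟩)
    · intro hu
      have key : u ∈ Q ∧ Commute u L.t ∧ u * u = 1 := by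
        rcases hu with rfl | rfl | ⟨hD, hQ, ht, -⟩
        · exact ⟨one_mem _, Commute.one_left _, one_mul 1⟩
        · exact ⟨zQ C.hy, L.tz.symm, zz C.hy⟩
        · exact ⟨hQ, ht, (D_sq C.hy hD).1⟩
      have hA := C.core_mem L.mem htth key.1 key.2.1
      obtain ⟨hR, hc⟩ := (L.SI_iff u).1 ⟨L.mem_S₀.2 ⟨C.A_le hA, key.2.1⟩, key.2.2⟩
      simp only [codeI, Bool.and_eq_true] at hc
      exact ⟨hR, hc, by rw [C.th_A hA]; rfl⟩
  rw [e, Finset.card_insert_of_notMem (by
    simp only [Finset.mem_insert, Finset.mem_filter, Finset.mem_univ, true_and, not_or]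
    exact ⟨Ne.symm (z_ne C.hy), fun hw => (D_sq C.hy hw.1).2 rfl⟩), Finset.card_insert_of_notMem (by
    simp only [Finset.mem_filter, Finset.mem_univ, true_and]
    exact fun hw => hw.2.2.2 rfl)] at h
  rw [Nat.card_eq_fintype_card, Fintype.card_subtype]
  omega

theorem Cfg.around_small {w : G} (hw : L.Wset w) (h0 : C.fst w = 0) : (w = C.x ∨ w = C.x * z) ∧
    Nat.card {u : G // L.Around w u} = 12 := by
  obtain ⟨hD, hQ, ht, hne⟩ := hw
  have hA : w ∈ C.A := C.core_mem L.mem (by rw [L.four]; norm_num) hQ ht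
  obtain ⟨i, j, hi, hj, e⟩ := (C.co_zero hA).1 (by rw [← C.fst_A hA, h0])
  have hj1 : j = 1 := by
    by_contra hn
    obtain rfl : j = 0 := by omega
    interval_cases i
    · rw [C.zel_zero] at e; exact (D_sq C.hy hD).2 e
    · exact hne (e.trans (by simp [Ctx.zel]))
  subst hj1
  have hx : C.zel i 1 = C.x ∨ C.zel i 1 = C.x * z := by
    interval_cases i
    · left; simp [Ctx.zel]
    · right; simp only [Ctx.zel, pow_one]; exact C.xz.symm.eq
  have hcode := List.all_eq_true.mp z_count_ok L.u (List.mem_range.mpr L.u_lt)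
  rw [L.six, Bool.not_true, Bool.false_or] at hcode
  simp only [Bool.and_eq_true] at hcode
  refine ⟨by rw [e]; exact hx, ?_⟩
  rw [e, L.around_zel 1 i hi (by norm_num) hx]
  interval_cases i
  · rw [Nat.eq_of_beq_eq_true hcode.1.1.1.1]
  · rw [Nat.eq_of_beq_eq_true hcode.1.1.1.2]

theorem Cfg.numN_mod : L.numN % 5 = 1 := by
  classical
  haveI : Fintype G := Fintype.ofFinite G
  -- the conjugates around other involutions
  let R3 := {u : G // IsConj z u ∧ Commute u z ∧ ¬ Commute u L.t ∧ z ∉ Subgroup.zpowers (u * L.t)}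
  have hhalf : ∀ u : R3, L.Wset ((u.1 * L.t) ^ (orderOf (u.1 * L.t) / 2)) := fun u => by
    obtain ⟨hu, huz, hnt, hnz⟩ := u.2
    have hev : Even (orderOf (u.1 * L.t)) := by
      rw [← Nat.not_odd_iff_even]
      intro ho
      obtain ⟨d, -, hd⟩ := S0208.result u.1 L.t (orderOf_two_iff.2 (D_sq C.hy hu))
        (orderOf_two_iff.2 ⟨L.sq, L.ne_one⟩) ho
      exact L.not_D (hu.trans (isConj_iff.2 ⟨d, hd⟩))
    have h := orderOf_two_iff.1 (S0209.result u.1 L.t (orderOf_two_iff.2 (D_sq C.hy hu))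
      (orderOf_two_iff.2 ⟨L.sq, L.ne_one⟩) hev).1
    exact L.around_mem hu huz hnt hnz h.1 h.2 (Subgroup.npow_mem_zpowers _ _)
  have huniq : ∀ {w u : G}, L.Wset w → w ∈ Subgroup.zpowers (u * L.t) →
      w = (u * L.t) ^ (orderOf (u * L.t) / 2) := fun hw hm =>
    Fusion.invol_unique_in_zpowers (orderOf_two_iff.2 (D_sq C.hy hw.1)) hm
  have e : R3 ≃ Σ w : {w : G // L.Wset w}, {u : G // L.Around w.1 u} :=
    { toFun := fun u => ⟨⟨_, hhalf u⟩, ⟨u.1, u.2.1, u.2.2.1, u.2.2.2.1, Subgroup.npow_mem_zpowers _ _⟩⟩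
      invFun := fun s => ⟨s.2.1, s.2.2.1, s.2.2.2.1, s.2.2.2.2.1, fun hz => s.1.2.2.2.2 ((huniq s.1.2 s.2.2.2.2.2).trans
        (Fusion.invol_unique_in_zpowers C.hy.ord hz).symm)⟩
      left_inv := fun _ => rfl
      right_inv := by
        rintro ⟨⟨w, hw⟩, ⟨u, hu⟩⟩
        obtain rfl := huniq hw hu.2.2.2
        rfl }
  have hR3 : Nat.card R3 = 152 := by
    haveI : Fintype {w : G // L.Wset w} := Fintype.ofFinite _
    rw [Nat.card_congr e, Nat.card_sigma]
    have hF : ∀ w : {w : G // L.Wset w}, Nat.card {u : G // L.Around w.1 u} + (if C.fst w.1 = 0 then 4 else 0) = 16 := by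
      intro w
      split_ifs with h0
      · rw [(L.around_small w.2 h0).2]
      · rw [L.around_point w.2 h0]
    have hsum := Finset.sum_congr (s₁ := Finset.univ) rfl fun w _ => hF w
    rw [Finset.sum_add_distrib, Finset.sum_const, smul_eq_mul, Finset.card_univ, ← Nat.card_eq_fintype_card,
      L.card_Wset, ← Finset.sum_filter, Finset.sum_const, smul_eq_mul] at hsum
    have h2 : (Finset.univ.filter fun w : {w : G // L.Wset w} => C.fst w.1 = 0).card = 2 := by
      have hWx : ∀ a : G, (a = C.x ∨ a = C.x * z) → L.Wset a ∧ C.fst a = 0 := fun a ha => by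
        obtain ⟨hD, ht⟩ := L.four_D (a := a) (Or.inr ha)
        obtain ⟨i, j, hi, hj, hz⟩ : ∃ i j, i < 2 ∧ j < 2 ∧ a = C.zel i j := by
          rcases ha with rfl | rfl
          · exact ⟨0, 1, by norm_num, by norm_num, by simp [Ctx.zel]⟩
          · exact ⟨1, 1, by norm_num, by norm_num, by simp only [Ctx.zel, pow_one]; exact C.xz.eq⟩
        refine ⟨⟨hD, ?_, ht, ?_⟩, by rw [hz, C.fst_A (C.zel_mem i j).1, C.co_zel hi hj]⟩
        · rcases ha with rfl | rfl
          · exact C.base.mem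
          · exact mul_mem C.base.mem (zQ C.hy)
        · rcases ha with rfl | rfl
          · exact C.base.nez
          · exact fun e => C.base.ne1 (mul_eq_right.1 e)
      rw [Finset.card_eq_two]
      refine ⟨⟨C.x, (hWx _ (Or.inl rfl)).1⟩, ⟨C.x * z, (hWx _ (Or.inr rfl)).1⟩,
        fun e => z_ne C.hy (mul_eq_left.1 (congrArg Subtype.val e).symm), ?_⟩
      ext w
      simp only [Finset.mem_filter, Finset.mem_univ, true_and, Finset.mem_insert, Finset.mem_singleton, Subtype.ext_iff]
      exact ⟨fun h0 => (L.around_small w.2 h0).1, fun h => (hWx _ h).2⟩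
    rw [h2] at hsum
    omega
  -- all conjugates centralising the central involution
  have h5 := C.card_outer_five
  have hQ := C.card_core_invol
  have hN : L.numN = Nat.card {u : G // (IsConj z u ∧ Commute u z) ∧ z ∈ Subgroup.zpowers (u * L.t)} :=
    Nat.card_congr (Equiv.subtypeEquivRight fun u => ⟨fun ⟨h, hm⟩ =>
      ⟨⟨h, (commute_central (D_sq C.hy h).1 L.sq (zz C.hy) hm).1⟩, hm⟩, fun h => ⟨h.1.1, h.2⟩⟩)
  have hDS := L.card_DS
  simp only [R3] at hR3
  rw [hN]
  simp only [Nat.card_eq_fintype_card, Fintype.card_subtype] at hR3 h5 hQ hDS ⊢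
  have hsplit : (Finset.univ.filter fun u : G => (IsConj z u ∧ Commute u z) ∧ z ∈ Subgroup.zpowers (u * L.t)).card +
      (Finset.univ.filter fun u : G => IsConj z u ∧ Commute u z ∧ Commute u L.t).card +
      (Finset.univ.filter fun u : G =>
        IsConj z u ∧ Commute u z ∧ ¬ Commute u L.t ∧ z ∉ Subgroup.zpowers (u * L.t)).card + 1 =
      (Finset.univ.filter fun u : G => IsConj z u ∧ Commute u z ∧ u ∉ Q).card +
      (Finset.univ.filter fun q : G => q ∈ Q ∧ q * q = 1).card := by
    have hexcl : ∀ u : G, IsConj z u → Commute u L.t → z ∉ Subgroup.zpowers (u * L.t) := fun u hu ht hm => by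
      obtain ⟨huu, -⟩ := D_sq C.hy hu
      have h2 : (u * L.t) * (u * L.t) = 1 := by
        rw [show u * L.t * (u * L.t) = u * (L.t * u) * L.t by group, ← ht.eq, ← mul_assoc, huu, one_mul, L.sq]
      have hz2 := Fusion.invol_unique_in_zpowers C.hy.ord hm
      have hd : orderOf (u * L.t) ∣ 2 := orderOf_dvd_of_pow_eq_one (by rw [pow_two, h2])
      rcases (Nat.dvd_prime Nat.prime_two).1 hd with h | h <;> rw [h] at hz2
      · exact z_ne C.hy (hz2.trans (pow_zero _))
      · rw [pow_one] at hz2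
        have hT := L.Dt_T hu ht
        rw [← hz2] at hT
        exact L.not_D hT.symm
    simp only [Finset.card_filter]
    rw [← Finset.sum_add_distrib, ← Finset.sum_add_distrib, ← Finset.sum_add_distrib]
    rw [← Finset.add_sum_erase _ _ (Finset.mem_univ (1 : G)), ← Finset.add_sum_erase _ _ (Finset.mem_univ (1 : G))]
    have h1 : ¬ IsConj z (1 : G) := fun h => (D_sq C.hy h).2 rfl
    simp only [h1, false_and, if_false, one_mem, mul_one, and_self, if_true, zero_add, add_zero]
    rw [add_comm _ 1]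
    congr 1
    refine Finset.sum_congr rfl fun u hu => ?_
    have hu1 : u ≠ 1 := (Finset.mem_erase.1 hu).1
    by_cases hD : IsConj z u
    · by_cases hz : Commute u z
      · by_cases hq : u ∈ Q
        · have := (D_sq C.hy hD).1
          by_cases ht : Commute u L.t
          · simp [isConj_iff.1 hD, hz, hq, ht, this, hexcl u hD ht]
          · by_cases hm : z ∈ Subgroup.zpowers (u * L.t) <;> simp [isConj_iff.1 hD, hz, hq, ht, this, hm]
        · by_cases ht : Commute u L.t
          · simp [isConj_iff.1 hD, hz, hq, ht, hexcl u hD ht]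
          · by_cases hm : z ∈ Subgroup.zpowers (u * L.t) <;> simp [isConj_iff.1 hD, hz, hq, ht, hm]
      · have hq : u ∉ Q := fun h => hz (Qz C.hy h)
        simp [hz, hq]
    · by_cases hq : u ∈ Q
      · have : u * u ≠ 1 := fun h => hD (C.conj_of_core hq h hu1)
        simp [mt isConj_iff.2 hD, this]
      · simp [mt isConj_iff.2 hD, hq]
  omega

end Cfsg.Agent.Spor.SuzT.Rad
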