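import Cfsg.Agent.Lib.Spor.SuzR.Ord.ZLocal

/-!
Groups of Suzuki sporadic type: dihedral groups with a prescribed central involution in the extraspecial subgroup.
-/

set_option autoImplicit false
set_option maxRecDepth 100000
set_option linter.unusedSectionVars false
set_option linter.style.haveILetI false

namespace Cfsg.Agent.Spor.SuzT.Rad

open Chk Dat Cfsg.Agent.Spor.SuzT.Five
open Cfsg.Agent.Solv.CITGroups (orderOf_two_iff)

universe u

variable {G : Type u} [Group G] [Finite G] {z : G} {Q : Subgroup G}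

theorem Ctx.codeD_iff (C : Ctx z Q) {u : G} (hR : u ∈ C.R) :
    (u = 1 ∨ IsConj z u) ↔ codeD (C.fst u) (C.th u) = true := by
  have hsq : u * u = 1 ↔ sqB (C.fst u) (C.th u) = true := by
    rw [C.sq_law hR]
    constructor
    · intro h
      rw [← C.zel_zero] at h
      obtain ⟨h1, h2⟩ := C.zel_inj (Nat.mod_lt _ (by norm_num)) (Nat.mod_lt _ (by norm_num)) (by norm_num)
        (by norm_num) h
      simp only [sqB, show sz (C.fst u) (C.th u) = 0 from h1, show sx (C.fst u) (C.th u) = 0 from h2,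
        Nat.beq_refl, Bool.and_self]
    · intro h
      simp only [sqB, Bool.and_eq_true] at h
      rw [Nat.eq_of_beq_eq_true h.1, Nat.eq_of_beq_eq_true h.2, C.zel_zero]
  simp only [codeD, Bool.and_eq_true]
  constructor
  · rintro (rfl | hD)
    · exact ⟨hsq.1 (one_mul 1), by rw [C.th_one']; rfl⟩
    · obtain ⟨h1, h2⟩ := D_sq C.hy hD
      exact ⟨hsq.1 h1, by rw [(C.D_iff hR h1 h2).1 hD]; rfl⟩
  · rintro ⟨h1, h2⟩
    by_cases hu : u = 1
    · exact Or.inl hu
    · exact Or.inr ((C.D_iff hR (hsq.2 h1) hu).2 (Nat.eq_of_beq_eq_true h2))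

theorem Ctx.sq_code_iff (C : Ctx z Q) {c : G} (hR : c ∈ C.R) {i j : ℕ} (hi : i < 2) (hj : j < 2) :
    c * c = C.zel i j ↔ (Nat.beq (sz (C.fst c) (C.th c)) i && Nat.beq (sx (C.fst c) (C.th c)) j) = true := by
  rw [C.sq_law hR, Bool.and_eq_true]
  constructor
  · intro h
    obtain ⟨h1, h2⟩ := C.zel_inj (Nat.mod_lt _ (by norm_num)) (Nat.mod_lt _ (by norm_num)) hi hj h
    refine ⟨?_, ?_⟩
    · rw [show sz _ _ = i from h1]; exact Nat.beq_refl i
    · rw [show sx _ _ = j from h2]; exact Nat.beq_refl j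
  · rintro ⟨h1, h2⟩
    rw [Nat.eq_of_beq_eq_true h1, Nat.eq_of_beq_eq_true h2]

variable {C : Ctx z Q} (L : Cfg C)

theorem sz_lt (a b : ℕ) : sz a b < 2 := Nat.mod_lt _ (by norm_num)

theorem sx_lt (a b : ℕ) : sx a b < 2 := Nat.mod_lt _ (by norm_num)

/-- squares of elements of the radical subgroup -/
theorem Ctx.pow_four {c : G} (hR : c ∈ C.R) : c * c * (c * c) = 1 := by
  rw [C.sq_law hR, C.zel_mul, show ∀ a : ℕ, (a + a) % 2 = 0 from fun a => by omega,
    show ∀ a : ℕ, (a + a) % 2 = 0 from fun a => by omega, C.zel_zero]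

theorem Cfg.around_zel (j : ℕ) (i : ℕ) (hi : i < 2) (hj : j < 2) (hx : C.zel i j = C.x ∨ C.zel i j = C.x * z) :
    Nat.card {u : G // L.Around (C.zel i j) u} =
      4 * ((List.range 256).filter fun n => sqTo L.u i j (n / 16) (n % 16)).length := by
  obtain ⟨w, hw⟩ : ∃ w, w = C.zel i j := ⟨_, rfl⟩
  have hwD : IsConj z w ∧ Commute w L.t := by
    rcases hx with e | e <;> rw [hw, e]
    · exact L.four_D (Or.inr (Or.inl rfl))
    · exact L.four_D (Or.inr (Or.inr rfl))
  obtain ⟨hww, hw1⟩ := D_sq C.hy hwD.1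
  rw [← hw, ← C.card_codes fun a b => sqTo L.u i j a b]
  refine Nat.card_congr (Equiv.subtypeEquivRight fun u => ?_)
  simp only [sqTo, Bool.and_assoc, Bool.and_eq_true]
  constructor
  · rintro ⟨hu, huz, hnt, hmem⟩
    obtain ⟨huu, -⟩ := D_sq C.hy hu
    obtain ⟨huw, -⟩ := commute_central huu L.sq hww hmem
    have hux : Commute u C.x := by
      rcases hx with e | e <;> rw [hw, e] at huw
      · exact huw
      · have := huw.mul_right huz
        rwa [mul_assoc, zz C.hy, mul_one] at this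
    have hR := C.D_cent_R hu huz hux
    refine ⟨hR, ((C.codeD_iff hR).1 (Or.inr hu)), ?_⟩
    have hrR : u * L.t ∈ C.R := mul_mem hR L.mem
    have ho : orderOf (u * L.t) = 2 ^ (1 + 1) := by
      haveI : Fact (Nat.Prime 2) := ⟨Nat.prime_two⟩
      refine orderOf_eq_prime_pow (fun e => hnt ?_) ?_
      · rw [pow_one, pow_two] at e
        show u * L.t = L.t * u
        rw [← inv_eq_of_mul_eq_one_right e, mul_inv_rev, inv_eq_of_mul_eq_one_right huu,
          inv_eq_of_mul_eq_one_right L.sq]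
      · rw [show (2 : ℕ) ^ (1 + 1) = 2 * 2 from rfl, pow_mul, pow_two, pow_two, Ctx.pow_four hrR]
    have h := Fusion.invol_unique_in_zpowers (orderOf_two_iff.2 ⟨hww, hw1⟩) hmem
    rw [ho, show (2 : ℕ) ^ (1 + 1) / 2 = 2 from rfl, pow_two] at h
    have h' := (C.sq_code_iff hrR hi hj).1 (h.symm.trans hw)
    rw [C.fst_hom hR L.mem, C.th_mul hR L.mem, L.four, Bool.and_eq_true] at h'
    exact h'
  · rintro ⟨hR, hc, h⟩
    have hrR : u * L.t ∈ C.R := mul_mem hR L.mem
    have hsq : u * L.t * (u * L.t) = w := by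
      refine ((C.sq_code_iff hrR hi hj).2 ?_).trans hw.symm
      rw [C.fst_hom hR L.mem, C.th_mul hR L.mem, L.four, Bool.and_eq_true]
      exact h
    have hD : IsConj z u := ((C.codeD_iff hR).2 hc).resolve_left fun e => hw1 (by
      rw [← hsq, e, one_mul, L.sq])
    refine ⟨hD, hR.1, fun e => hw1 ?_, ?_⟩
    · rw [← hsq, show u * L.t * (u * L.t) = u * (L.t * u) * L.t by group, ← e.eq, ← mul_assoc,
        (D_sq C.hy hD).1, one_mul, L.sq]
    · rw [← hsq]; exact mul_mem (Subgroup.mem_zpowers _) (Subgroup.mem_zpowers _)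

theorem Cfg.around_point {w : G} (hw : L.Wset w) (h0 : C.fst w ≠ 0) : Nat.card {u : G // L.Around w u} = 16 := by
  obtain ⟨hwD, hwQ, hwt, hwz⟩ := hw
  obtain ⟨hww, hw1⟩ := D_sq C.hy hwD
  have htth : C.th L.t ≠ 0 := by rw [L.four]; norm_num
  have hwA : w ∈ C.A := C.core_mem L.mem htth hwQ hwt
  have hwth : C.th w = 0 := C.th_A hwA
  have hcode := List.all_eq_true.mp z_count_ok L.u (List.mem_range.mpr L.u_lt)
  rw [L.six, Bool.not_true, Bool.false_or] at hcode
  simp only [Bool.and_eq_true, List.all_eq_true, List.mem_range] at hcode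
  have hr := hcode.2 (C.fst w) (C.fst_lt _)
  have hwS : L.SI w := ⟨L.mem_S₀.2 ⟨C.A_le hwA, hwt⟩, hww⟩
  obtain ⟨-, hwc⟩ := (L.SI_iff w).1 hwS
  simp only [codeI, hwth, Bool.and_eq_true] at hwc
  have hb : Nat.beq (C.fst w) 0 = false := (Bool.not_eq_true _).mp fun e => h0 (Nat.eq_of_beq_eq_true e)
  rw [hwc.1, hwc.2, hb, Bool.not_false, Bool.and_self, Bool.and_self, Bool.not_true, Bool.false_or,
    List.any_eq_true] at hr
  obtain ⟨j, hj, hjc⟩ := hr
  rw [List.mem_range] at hj
  simp only [cmB, Bool.and_eq_true] at hjc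
  obtain ⟨hja, -⟩ := C.ra_spec hj
  set a := C.ra j with ha
  have hac : C.fst a = j := by rw [C.fst_A hja, (C.ra_spec hj).2]
  have hath : C.th a = 0 := C.th_A hja
  have hat : ¬ Commute a L.t := fun e => by
    have h := (C.comm_iff (C.A_le hja) L.mem).1 e
    rw [hac, hath, L.four, show C.fst L.t = L.u from rfl, Nat.eq_of_beq_eq_true hjc.1] at h
    exact absurd h.2 (by norm_num)
  have haw : Commute a w := (C.comm_iff (C.A_le hja) (C.A_le hwA)).2
    (by rw [hac, hath, hwth]; exact ⟨Nat.eq_of_beq_eq_true hjc.2.1, Nat.eq_of_beq_eq_true hjc.2.2⟩)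
  -- transport the third involution to the point
  obtain ⟨g, hgw⟩ := move_sing C.F C.hy hwQ hww hw1 hwz C.base.mem C.base.sq C.base.ne1 C.base.nez
  have hgz : Commute (g : G) z := mem_C.1 g.2
  obtain ⟨c, hc⟩ : ∃ c, c = (g : G) := ⟨_, rfl⟩
  rw [← hc] at hgw hgz
  set t' := c * L.t * c⁻¹ with ht'
  set k' := c * C.x * c⁻¹ with hk'
  have ht'z : Commute t' z := (hgz.mul_left L.tz).mul_left hgz.inv_left
  have ht'x : Commute t' C.x := hgw ▸ (Commute.conj_iff c).2 hwt.symm
  have ht't : t' * t' = 1 := by rw [ht', conj_mul, L.sq]; group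
  have hpiC : IsConj sC (C.pi t') := isConj_iff.2 ⟨C.pi c, by
    rw [ht', C.pi_mul (hgz.mul_left L.tz) hgz.inv_left, C.pi_mul hgz L.tz, C.pi_inv hgz, C.pi_four L.mem L.four]⟩
  obtain ⟨e, he, hcols⟩ := (cls_spec clsC_ok rep_spec.2.1).2 _ hpiC
  have hfix := C.pi_fix ht'z (Or.inl (mul_inv_eq_iff_eq_mul.2 ht'x.eq))
  have h1 : app e.1 1 = 1 := by
    have := enc_smul hcols e0
    rwa [hfix, e0_facts.2.2, eq_comm] at this
  have hxw : Commute C.x w := (C.A_x hwA).symm
  have hk'A : k' ∈ C.A := C.mem_A.2 ⟨C.hy.norm c hgz _ C.base.mem, hgw ▸ (Commute.conj_iff c).2 hxw⟩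
  have hk't : t' * k' * t'⁻¹ = k' := mul_inv_eq_iff_eq_mul.2 ((Commute.conj_iff c).2 L.tx).eq
  have hk0 : C.co k' ≠ 0 := fun e0 => by
    obtain ⟨i1, i2, hi1, hi2, ek⟩ := (C.co_zero hk'A).1 e0
    have hinv : ∀ i, c * z ^ i * c⁻¹ = z ^ i := fun i => by rw [(hgz.pow_right i).eq, mul_inv_cancel_right]
    have hwx : c * (z ^ i1 * w ^ i2) * c⁻¹ = C.zel i1 i2 := by
      rw [show c * (z ^ i1 * w ^ i2) * c⁻¹ = c * z ^ i1 * c⁻¹ * (c * w ^ i2 * c⁻¹) by group, hinv, ← conj_pow, hgw]
      rfl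
    have hx' : C.x = z ^ i1 * w ^ i2 := mul_left_cancel (mul_right_cancel (ek.trans hwx.symm))
    interval_cases i2
    · rw [pow_zero, mul_one] at hx'
      interval_cases i1
      · exact C.base.ne1 (by rw [hx', pow_zero])
      · exact C.base.nez (by rw [hx', pow_one])
    · rw [pow_one] at hx'
      have := congrArg C.fst hx'
      rw [C.fst_hom (C.A_le (pow_mem C.zA i1)) (C.A_le hwA), C.fst_A C.xA, C.fst_A (pow_mem C.zA i1),
        show C.x = C.zel 0 1 by simp [Ctx.zel], show z ^ i1 = C.zel i1 0 by simp [Ctx.zel],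
        C.co_zel (by norm_num) (by norm_num), C.co_zel hi1 (by norm_num), zero_xor'] at this
      exact h0 this.symm
  have hkq : q4 (C.co k') = 0 := by
    have h := C.sq_A hk'A
    rw [hk', conj_mul, C.base.sq, mul_one, mul_inv_cancel, ← C.zel_zero] at h
    exact ((C.zel_inj (by norm_num) (by norm_num) (q4_lt _) (by norm_num) h).1).symm
  have hkfix : act (C.pi t') (C.co k') = C.co k' := by
    conv_rhs => rw [← hk't]
    exact ((C.conj_A ht'z (Or.inl (mul_inv_eq_iff_eq_mul.2 ht'x.eq)) hk'A).2).symm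
  have hnrad : (rad.any fun f => f.1 == e.1) = false := by
    rw [← Bool.not_eq_true]
    intro hrad
    have hR : RadAt (C.pi t') := radAt_of_list hcols h1 hrad
    have hA : c * a * c⁻¹ ∈ C.A := C.mem_A.2 ⟨C.hy.norm c hgz _ (C.mem_A.1 hja).1,
      hgw ▸ (Commute.conj_iff c).2 haw⟩
    obtain ⟨hA2, hco⟩ := C.conj_A ht'z (Or.inl (mul_inv_eq_iff_eq_mul.2 ht'x.eq)) hA
    rw [act_rad hR (C.co_lt _)] at hco
    -- the commutator is the point up to the centre
    have hcomm : L.t * a * L.t⁻¹ ∈ C.A ∧ C.co (L.t * a * L.t⁻¹) = C.co a := by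
      have h := C.conj_A L.tz (Or.inl (mul_inv_eq_iff_eq_mul.2 L.tx.eq)) hja
      rw [act_rad L.mem.2.2 (C.co_lt _)] at h
      exact h
    obtain ⟨i1, i2, hi1, hi2, ez⟩ := (C.co_zero (mul_mem hcomm.1 (inv_mem hja))).1 (by
      have hi : C.co a⁻¹ = C.co a := by rw [Ctx.co, vec_inv C.F C.hy (C.mem_A.1 hja).1]; rfl
      rw [C.co_mul hcomm.1 (inv_mem hja), hcomm.2, hi, xor_self'])
    have htr : t' * (c * a * c⁻¹) * t'⁻¹ = c * C.zel i1 i2 * c⁻¹ * (c * a * c⁻¹) := by
      rw [← ez, ht']; group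
    have hi2' : i2 = 1 := by
      by_contra hne
      have hi20 : i2 = 0 := by omega
      subst hi20
      interval_cases i1
      · rw [C.zel_zero, mul_inv_eq_one, mul_inv_eq_iff_eq_mul] at ez
        exact hat ez.symm
      · have h2 : L.t * a * L.t⁻¹ = z * a := by
          rw [show C.zel 1 0 = z by simp [Ctx.zel]] at ez
          exact mul_inv_eq_iff_eq_mul.1 ez
        have hv := congrArg (fun y => C.th (a * y)) h2
        have hcom : cx (C.fst a) (C.th a) (C.fst L.t) (C.th L.t) = 0 := by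
          have hR2 : a * L.t ∈ C.R := mul_mem (C.A_le hja) L.mem
          have e2 : a * L.t * (a * L.t) = a * a * z := by
            calc a * L.t * (a * L.t) = a * (L.t * a * L.t⁻¹) * (L.t * L.t) := by group
              _ = a * a * z := by rw [h2, L.sq, mul_one, ← (C.A_z hja).eq, ← mul_assoc]
          have hh := C.sq_law hR2
          have hz1 : C.zel 1 0 = z := by simp [Ctx.zel]
          rw [e2.trans (show a * a * z = a * a * C.zel 1 0 by rw [hz1]), C.sq_law (C.A_le hja), C.zel_mul] at hh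
          obtain ⟨-, h4⟩ := C.zel_inj (Nat.mod_lt _ (by norm_num)) (Nat.mod_lt _ (by norm_num))
            (Nat.mod_lt _ (by norm_num)) (Nat.mod_lt _ (by norm_num)) hh
          rw [C.fst_hom (C.A_le hja) L.mem, C.th_mul (C.A_le hja) L.mem] at h4
          have h5 := C.sq_law L.mem
          rw [L.sq, ← C.zel_zero] at h5
          obtain ⟨-, h6⟩ := C.zel_inj (by norm_num) (by norm_num) (Nat.mod_lt _ (by norm_num))
            (Nat.mod_lt _ (by norm_num)) h5
          simp only [cx, sx] at h4 h6 ⊢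
          omega
        rw [hac, hath, L.four, show C.fst L.t = L.u from rfl, Nat.eq_of_beq_eq_true hjc.1] at hcom
        omega
    subst hi2'
    have hzk : c * C.zel i1 1 * c⁻¹ = z ^ i1 * k' := by
      rw [hk', Ctx.zel, pow_one, show c * (z ^ i1 * C.x) * c⁻¹ = c * z ^ i1 * c⁻¹ * (c * C.x * c⁻¹) by group,
        (hgz.pow_right i1).eq, mul_inv_cancel_right]
    rw [htr, hzk, C.co_mul (mul_mem (pow_mem C.zA _) hk'A) hA, C.co_mul (pow_mem C.zA _) hk'A,
      show z ^ i1 = C.zel i1 0 by simp [Ctx.zel], C.co_zel hi1 (by norm_num), zero_xor'] at hco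
    refine hk0 ?_
    calc C.co k' = Nat.xor (Nat.xor (C.co k') (C.co (c * a * c⁻¹))) (C.co (c * a * c⁻¹)) := by
          rw [show ∀ p q r, Nat.xor (Nat.xor p q) r = Nat.xor p (Nat.xor q r) from Nat.xor_assoc, xor_self', xor_zero']
      _ = 0 := by rw [hco, xor_self']
  have ht := List.all_eq_true.mp trans_ok e he
  rw [h1, Nat.beq_refl, Bool.not_true, Bool.false_or, hnrad, Bool.false_or, List.all_eq_true] at ht
  have ht2 := ht (C.co k') (List.mem_range.mpr (C.co_lt _))
  have hk0' : Nat.beq (C.co k') 0 = false := (Bool.not_eq_true _).mp fun e => hk0 (Nat.eq_of_beq_eq_true e)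
  rw [hk0', hkq, ← act_cols hcols (C.co_lt _), hkfix, Bool.not_false, Bool.true_and, Nat.beq_refl, Nat.beq_refl,
    Bool.and_self, Bool.not_true, Bool.false_or, Bool.and_eq_true, List.all_eq_true] at ht2
  obtain ⟨hlen, hfixed⟩ := ht2
  -- the transported set
  have hkey : ∀ u : G, L.Around w u ↔ (c * u * c⁻¹ ∈ C.R ∧ moved e.1 (C.fst (c * u * c⁻¹)) (C.th (c * u * c⁻¹)) = true) := by
    intro u
    set v := c * u * c⁻¹ with hv
    have hDv : IsConj z u ↔ IsConj z v :=
      ⟨fun h => h.trans (isConj_iff.2 ⟨c, rfl⟩), fun h => h.trans (isConj_iff.2 ⟨c⁻¹, by rw [hv]; group⟩)⟩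
    have hprod : v * t' = MulAut.conj c (u * L.t) := by rw [hv, ht']; simp [mul_assoc]
    have hmemiff : w ∈ Subgroup.zpowers (u * L.t) ↔ C.x ∈ Subgroup.zpowers (v * t') := by
      rw [hprod, ← hgw, show c * w * c⁻¹ = MulAut.conj c w from rfl]
      simp only [Subgroup.mem_zpowers_iff, ← map_zpow, EmbeddingLike.apply_eq_iff_eq]
    have hp : v ∈ C.R → v * t' * (v * t') ∈ C.R ∧
        C.fst (v * t' * (v * t')) = Nat.xor (C.fst v) (act4 e.1 (C.fst v)) ∧
        C.th (v * t' * (v * t')) = Nat.xor (C.th v) (act4 e.1 (C.th v)) := fun hR => by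
      obtain ⟨b1, b2, b3⟩ := C.conj_fix ht'z ht'x hR
      have e' : v * t' * (v * t') = v * (t' * v * t'⁻¹) := by
        rw [inv_eq_of_mul_eq_one_right ht't]; group
      rw [e', C.fst_hom hR b1, C.th_mul hR b1, b2, b3, act_cols hcols (C.fst_lt _), act_cols hcols (C.th_lt' _)]
      exact ⟨mul_mem hR b1, rfl, rfl⟩
    constructor
    · rintro ⟨hu, huz, hnt, hmem⟩
      obtain ⟨huu, -⟩ := D_sq C.hy hu
      obtain ⟨huw, -⟩ := commute_central huu L.sq hww hmem
      have hvx : Commute v C.x := hgw ▸ (Commute.conj_iff c).2 huw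
      have hvz : Commute v z := (hgz.mul_left huz).mul_left hgz.inv_left
      have hR := C.D_cent_R (hDv.1 hu) hvz hvx
      obtain ⟨hpR, p1, p2⟩ := hp hR
      have hcD := (C.codeD_iff hR).1 (Or.inr (hDv.1 hu))
      refine ⟨hR, ?_⟩
      have hxm := hmemiff.1 hmem
      have hxo : orderOf C.x = 2 := orderOf_two_iff.2 ⟨C.base.sq, C.base.ne1⟩
      have hxe := Fusion.invol_unique_in_zpowers hxo hxm
      have hne : v * t' * (v * t') ≠ 1 := fun e1 => hnt ((Commute.conj_iff c).1 (by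
        show v * t' = t' * v
        rw [← inv_eq_of_mul_eq_one_right e1, mul_inv_rev, inv_eq_of_mul_eq_one_right (D_sq C.hy (hDv.1 hu)).1,
          inv_eq_of_mul_eq_one_right ht't]))
      haveI : Fact (Nat.Prime 2) := ⟨Nat.prime_two⟩
      set p := v * t' * (v * t') with hpdef
      by_cases hpp : p * p = 1
      · exfalso
        have ho : orderOf (v * t') = 2 ^ (1 + 1) := by
          refine orderOf_eq_prime_pow (fun e1 => hne (by rwa [pow_one, pow_two] at e1)) ?_
          rw [show (2 : ℕ) ^ (1 + 1) = 2 * 2 from rfl, pow_mul, pow_two, pow_two, ← hpdef, hpp]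
        rw [ho, show (2 : ℕ) ^ (1 + 1) / 2 = 2 from rfl, pow_two, ← hpdef] at hxe
        rw [← hxe, C.fst_A C.xA, show C.x = C.zel 0 1 by simp [Ctx.zel],
          C.co_zel (by norm_num) (by norm_num)] at p1
        rw [← hxe, C.th_A C.xA] at p2
        have hf := hfixed (16 * C.fst v + C.th v) (List.mem_range.mpr (by
          have := C.fst_lt v; have := C.th_lt' v; omega))
        have hu' := C.th_lt' v
        simp only [show (16 * C.fst v + C.th v) / 16 = C.fst v by omega,
          show (16 * C.fst v + C.th v) % 16 = C.th v by omega, hcD, ← xor_eq_zero' p1.symm, ← xor_eq_zero' p2.symm,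
          Nat.beq_refl, Bool.and_self, Bool.not_true, Bool.false_or] at hf
        simp only [cmB, Bool.and_eq_true] at hf
        have hvk : Commute k' v := (C.comm_iff (C.A_le hk'A) hR).2 (by
          rw [C.fst_A hk'A, C.th_A hk'A]
          exact ⟨Nat.eq_of_beq_eq_true hf.1, Nat.eq_of_beq_eq_true hf.2⟩)
        have huR := C.D_cent_R hu huz ((Commute.conj_iff c).1 hvk).symm
        have hwe := Fusion.invol_unique_in_zpowers (orderOf_two_iff.2 ⟨hww, hw1⟩) hmem
        have ho' : orderOf (u * L.t) = 2 ^ (1 + 1) := by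
          rw [← ho, hprod, MulEquiv.orderOf_eq]
        rw [ho', show (2 : ℕ) ^ (1 + 1) / 2 = 2 from rfl, pow_two, C.sq_law (mul_mem huR L.mem)] at hwe
        rw [hwe, C.fst_A (C.zel_mem _ _).1, C.co_zel (sz_lt _ _) (sx_lt _ _)] at h0
        exact h0 rfl
      · have ho : orderOf (v * t') = 2 ^ (2 + 1) := by
          refine orderOf_eq_prime_pow (fun e1 => hpp ?_) ?_
          · rwa [show (2 : ℕ) ^ 2 = 2 * 2 from rfl, pow_mul, pow_two, pow_two, ← hpdef] at e1
          · rw [show (2 : ℕ) ^ (2 + 1) = 2 * 2 * 2 from rfl, pow_mul, pow_mul, pow_two, pow_two, pow_two, ← hpdef,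
              Ctx.pow_four hpR]
        rw [ho, show (2 : ℕ) ^ (2 + 1) / 2 = 2 * 2 from rfl, pow_mul, pow_two, pow_two, ← hpdef] at hxe
        have hx1 : p * p = C.zel 0 1 := hxe.symm.trans (by simp [Ctx.zel])
        have h2 := (C.sq_code_iff hpR (show 0 < 2 by norm_num) (show 1 < 2 by norm_num)).1 hx1
        rw [p1, p2] at h2
        simp only [moved, hcD, Bool.true_and]
        exact h2
    · rintro ⟨hR, hm⟩
      obtain ⟨hpR, p1, p2⟩ := hp hR
      simp only [moved, Bool.and_assoc, Bool.and_eq_true] at hm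
      have hsq : v * t' * (v * t') * (v * t' * (v * t')) = C.x := by
        refine ((C.sq_code_iff hpR (show 0 < 2 by norm_num) (show 1 < 2 by norm_num)).2 ?_).trans (by simp [Ctx.zel])
        rw [p1, p2, Bool.and_eq_true]
        exact hm.2
      have hD : IsConj z v := ((C.codeD_iff hR).2 hm.1).resolve_left fun e1 => C.base.ne1 (by
        rw [← hsq, e1, one_mul, ht't, one_mul])
      refine ⟨hDv.2 hD, ?_, fun hc2 => C.base.ne1 ?_, hmemiff.2 ?_⟩
      · have h := (hgz.inv_left.mul_left hR.1).mul_left hgz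
        rwa [hv, show c⁻¹ * (c * u * c⁻¹) * c = u by group] at h
      · have hc3 : Commute v t' := (Commute.conj_iff c).2 hc2
        have hp1 : v * t' * (v * t') = 1 :=
          calc v * t' * (v * t') = v * t' * (t' * v) := congrArg (v * t' * ·) hc3.eq
            _ = v * (t' * t') * v := by simp only [mul_assoc]
            _ = 1 := by rw [ht't, mul_one, (D_sq C.hy hD).1]
        rw [← hsq, hp1, one_mul]
      · rw [← hsq]
        exact mul_mem (mul_mem (Subgroup.mem_zpowers _) (Subgroup.mem_zpowers _))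
          (mul_mem (Subgroup.mem_zpowers _) (Subgroup.mem_zpowers _))
  rw [Nat.card_congr ((MulAut.conj c).toEquiv.subtypeEquiv (q := fun v => v ∈ C.R ∧ moved e.1 (C.fst v) (C.th v) = true)
    hkey), C.card_codes fun a b => moved e.1 a b, Nat.eq_of_beq_eq_true hlen]

end Cfsg.Agent.Spor.SuzT.Rad
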